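import Mathlib
import Cfsg.Agent.Helper6.G2Two.Base
import Cfsg.Agent.Helper6.Ree.NFU
import Cfsg.Agent.S1027

set_option autoImplicit false
set_option linter.unusedSectionVars false
set_option linter.unusedVariables false
set_option linter.unusedSimpArgs false

/-!
Involutions of `G₂(q)`, `q` odd: every involution is conjugate to an involution of the monomial
subgroup `N`.
-/

namespace Cfsg.Agent.Helper6.G2Odd

open Cfsg.Lie Cfsg.Agent.Helper6 Cfsg.Agent.Helper6.Ree Cfsg.Agent.Helper6.G2Two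

variable {F : Type*} [Field F]

/-- the key consequence of the uniqueness of the normal form: if `n v` is an involution with
`n ∈ N`, `v ∈ U`, then `n` is an involution inverting `v` -/
theorem core {n v : GL chevG2.Idx F} (hn : n ∈ chevG2.monomialSubgroup F)
    (hv : v ∈ chevG2.posUnipotent F) (h2 : n * v * (n * v) = 1) :
    n⁻¹ = n ∧ n * v * n⁻¹ = v⁻¹ := by
  have Δ := bnG (F := F)
  obtain ⟨a, ha, hna, c, hc, rfl⟩ := Δ.adec_of_mem hn v hv
  have e1 : n * (a * c) = (n * a * n⁻¹) * n * c := by group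
  have e0 : (n * (a * c))⁻¹ = n * (a * c) := inv_eq_of_mul_eq_one_left h2
  have e2 : n * (a * c) = (a * c)⁻¹ * n⁻¹ * 1 := by
    rw [← e0]; group
  have hninv : n⁻¹ ∈ chevG2.monomialSubgroup F := Subgroup.inv_mem _ hn
  have h1mem : (1 : GL chevG2.Idx F) ∈ Δ.Un n⁻¹ := Subgroup.one_mem _
  obtain ⟨h3, h4, h5⟩ := Δ.unu_unique hna (Subgroup.inv_mem _ hv) hn hninv hc h1mem
    (e1.symm.trans e2)
  refine ⟨h4.symm, ?_⟩
  rw [h5, mul_one] at h3 ⊢
  exact h3

/-- an involution `n v` is conjugate to `n` under `U`, if `v` has odd order -/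
theorem conj_of_odd {n v : GL chevG2.Idx F} (hn : n ∈ chevG2.monomialSubgroup F)
    (hv : v ∈ chevG2.posUnipotent F) (h2 : n * v * (n * v) = 1) (hodd : Odd (orderOf v)) :
    n * n = 1 ∧ ∃ w ∈ chevG2.posUnipotent F, w * (n * v) * w⁻¹ = n := by
  obtain ⟨h1, h3⟩ := core hn hv h2
  have hnn : n * n = 1 := by
    nth_rewrite 1 [← h1]; exact inv_mul_cancel n
  refine ⟨hnn, ?_⟩
  obtain ⟨k, hk⟩ := hodd
  -- `w = v ^ (k+1)` is a square root of `v`
  set w := v ^ (k + 1) with hw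
  have hww : w * w = v := by
    rw [hw, ← pow_add]
    have : k + 1 + (k + 1) = orderOf v + 1 := by omega
    rw [this, pow_succ, pow_orderOf_eq_one, one_mul]
  have hconj : n * w * n⁻¹ = w⁻¹ := by
    have : n * w * n⁻¹ = (n * v * n⁻¹) ^ (k + 1) := by
      rw [hw]
      exact (conj_pow (a := n) (b := v) (i := k + 1)).symm
    rw [this, h3, inv_pow]
  refine ⟨w, Subgroup.pow_mem _ hv _, ?_⟩
  have e : n * w = w⁻¹ * n := by
    have := congrArg (· * n) hconj
    simpa [mul_assoc] using this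
  calc w * (n * v) * w⁻¹ = w * (n * w) * (w * w⁻¹) := by rw [← hww]; group
    _ = w * (w⁻¹ * n) * 1 := by rw [e, mul_inv_cancel]
    _ = n := by group

section finite

variable [Fintype F]

theorem odd_orderOf_of_mem_U (hq : Odd (Fintype.card F)) {v : GL chevG2.Idx F}
    (hv : v ∈ chevG2.posUnipotent F) : Odd (orderOf v) := by
  have hcard : Nat.card (chevG2.posUnipotent F) = Fintype.card F ^ (chevG2.nroots / 2) :=
    Cfsg.Agent.S1027.result chevG2 (by simp)
  have h1 : orderOf (⟨v, hv⟩ : chevG2.posUnipotent F) ∣ Nat.card (chevG2.posUnipotent F) :=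
    orderOf_dvd_natCard _
  rw [hcard, ← Subgroup.orderOf_coe] at h1
  exact (hq.pow).of_dvd_nat h1

/-- every involution of the group is conjugate to an involution of `N` -/
theorem invol_to_N (hq : Odd (Fintype.card F)) {t : GL chevG2.Idx F} (ht : t ∈ chevG2.group F)
    (h2 : t * t = 1) :
    ∃ g ∈ chevG2.group F, ∃ n ∈ chevG2.monomialSubgroup F, n * n = 1 ∧ g * t * g⁻¹ = n := by
  have Δ := bnG (F := F)
  obtain ⟨u₁, hu₁, n, hn, u, hu, rfl⟩ := Δ.unu_exists ht
  have huU : u ∈ chevG2.posUnipotent F := ((Δ.mem_Un_iff hn).1 hu).1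
  have hv : u * u₁ ∈ chevG2.posUnipotent F := Subgroup.mul_mem _ huU hu₁
  have e : u₁⁻¹ * (u₁ * n * u) * u₁⁻¹⁻¹ = n * (u * u₁) := by group
  have h2' : n * (u * u₁) * (n * (u * u₁)) = 1 := by
    rw [← e]
    calc u₁⁻¹ * (u₁ * n * u) * u₁⁻¹⁻¹ * (u₁⁻¹ * (u₁ * n * u) * u₁⁻¹⁻¹)
        = u₁⁻¹ * ((u₁ * n * u) * (u₁ * n * u)) * u₁ := by group
      _ = 1 := by rw [h2]; group
  obtain ⟨hnn, w, hw, hwe⟩ := conj_of_odd hn hv h2' (odd_orderOf_of_mem_U hq hv)
  refine ⟨w * u₁⁻¹, ?_, n, hn, hnn, ?_⟩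
  · exact Subgroup.mul_mem _ (U_le_group hw) (Subgroup.inv_mem _ (U_le_group hu₁))
  · calc w * u₁⁻¹ * (u₁ * n * u) * (w * u₁⁻¹)⁻¹ = w * (n * (u * u₁)) * w⁻¹ := by group
      _ = n := hwe

/-- the same for an element given as `n v` -/
theorem invol_nv (hq : Odd (Fintype.card F)) {n v : GL chevG2.Idx F}
    (hn : n ∈ chevG2.monomialSubgroup F) (hv : v ∈ chevG2.posUnipotent F)
    (h2 : n * v * (n * v) = 1) :
    n * n = 1 ∧ ∃ w ∈ chevG2.group F, w * (n * v) * w⁻¹ = n := by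
  obtain ⟨hnn, w, hw, hwe⟩ := conj_of_odd hn hv h2 (odd_orderOf_of_mem_U hq hv)
  exact ⟨hnn, w, U_le_group hw, hwe⟩

end finite

end Cfsg.Agent.Helper6.G2Odd
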