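import Mathlib
import Cfsg.Agent.Helper6.G2Odd.ToN
import Cfsg.Agent.Helper6.G2Two.CentLong
import Cfsg.Agent.Helper6.Ree.G2Cells

set_option autoImplicit false
set_option linter.unusedSectionVars false
set_option linter.unusedVariables false
set_option linter.unusedSimpArgs false

/-!
The monomial subgroup `N` of `G₂(F)`: explicit signs in the action on the root elements, the
twelve classes modulo `H`.
-/

namespace Cfsg.Agent.Helper6.G2Odd

open Cfsg.Lie Cfsg.Agent.Helper6 Cfsg.Agent.Helper6.Ree Cfsg.Agent.Helper6.G2Two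

variable {F : Type*} [Field F]

/-- root elements for different roots are different -/
theorem X_root_inj {r s : ℕ} (hr : r < 12) (hs : s < 12) {a b : F} (ha : a ≠ 0)
    (h : X r a = X s b) : r = s := by
  have Δ := bnG (F := F)
  -- the case of two positive roots
  have pos : ∀ {r s : ℕ}, 6 ≤ r → r < 12 → 6 ≤ s → s < 12 → ∀ {a b : F}, a ≠ 0 →
      X r a = X s b → r = s := by
    intro r s hr6 hr hs6 hs a b ha h
    by_contra hne
    rcases Nat.lt_or_gt_of_ne hne with hlt | hlt
    · have hmem : X r a ∈ Uge chevG2 F (r + 1) := by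
        rw [h]; exact X_mem_Uge (by omega) hs _
      exact ha (xU_mem_uge_succ (F := F) g2_tab (k := r) (show chevG2.nroots / 2 ≤ r from hr6) hr hmem)
    · have hmem : X s b ∈ Uge chevG2 F (s + 1) := by
        rw [← h]; exact X_mem_Uge (by omega) hr _
      have hb : b = 0 :=
        xU_mem_uge_succ (F := F) g2_tab (k := s) (show chevG2.nroots / 2 ≤ s from hs6) hs hmem
      rw [hb, X_zero] at h
      exact X_ne_one hr ha h
  by_cases hr6 : 6 ≤ r
  · by_cases hs6 : 6 ≤ s
    · exact pos hr6 hr hs6 hs ha h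
    · exfalso
      have h1 : X r a ∈ chevG2.posUnipotent F := G2Two.X_mem_U hr6 hr a
      have h2 : X r a ∈ chevG2.negUnipotent F := by
        rw [h]; exact ReeCtx.X_mem_V (by omega) b
      exact X_ne_one hr ha (Δ.eq_one_of_mem_U_of_mem_V h1 h2)
  · by_cases hs6 : 6 ≤ s
    · exfalso
      have h1 : X r a ∈ chevG2.posUnipotent F := by
        rw [h]; exact G2Two.X_mem_U hs6 hs b
      have h2 : X r a ∈ chevG2.negUnipotent F := ReeCtx.X_mem_V (by omega) a
      exact X_ne_one hr ha (Δ.eq_one_of_mem_U_of_mem_V h1 h2)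
    · obtain ⟨a', ha'⟩ := nw0_conj (K := F) hr a
      obtain ⟨b', hb'⟩ := nw0_conj (K := F) hs b
      have ha0 : a' ≠ 0 := by
        rintro rfl
        rw [X_zero] at ha'
        have : X r a = 1 := by
          have e : X r a = (nw0 F)⁻¹ * (nw0 F * X r a * (nw0 F)⁻¹) * nw0 F := by group
          rw [e, ha']; group
        exact X_ne_one hr ha this
      have e : X (11 - r) a' = X (11 - s) b' := by rw [← ha', ← hb', h]
      have := pos (by omega) (by omega) (by omega) (by omega) ha0 e
      omega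

/-! ### explicit signs -/

/-- the sign in the action of the word `L` on the root element `x_s` -/
def sgnWr : List ℕ → ℕ → ℤ
  | [], _ => 1
  | j :: L, s => etaR chevG2 (chevG2.simple j) s * sgnWr L (wR chevG2 (chevG2.simple j) s)

theorem nWr_conj_sgn {L : List ℕ} (hL : ∀ j ∈ L, j < 2) {s : ℕ} (hs : s < 12) (t : F) :
    nWr hB2 F L * X s t * (nWr hB2 F L)⁻¹ = X (wFr chevG2 L s) (((sgnWr L s : ℤ) : F) * t) := by
  have Δ := bnG (F := F)
  induction L generalizing s t with
  | nil => simp [nWr, wFr, sgnWr]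
  | cons j L ih =>
    have hj : j < 2 := hL j List.mem_cons_self
    have hA := Δ.hAll j hj
    have hws : wR chevG2 (chevG2.simple j) s < 12 := wR_lt Δ.hB hA.hS.1 hA.hR hs
    have e : nWr hB2 F (j :: L) * X s t * (nWr hB2 F (j :: L))⁻¹ =
        nWr hB2 F L * (nU hB2 (chevG2.simple j) (one_ne_zero (α := F)) * X s t *
          (nU hB2 (chevG2.simple j) (one_ne_zero (α := F)))⁻¹) * (nWr hB2 F L)⁻¹ := by
      show nWr hB2 F L * nU hB2 (chevG2.simple j) (one_ne_zero (α := F)) * X s t *
        (nWr hB2 F L * nU hB2 (chevG2.simple j) (one_ne_zero (α := F)))⁻¹ = _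
      group
    rw [e]
    have h1 := nU_conj_xU (F := F) hB2 hA hs t
    change nU hB2 (chevG2.simple j) (one_ne_zero (α := F)) * X s t *
      (nU hB2 (chevG2.simple j) (one_ne_zero (α := F)))⁻¹ = X _ _ at h1
    rw [h1, ih (fun i hi => hL i (List.mem_cons_of_mem _ hi)) hws]
    show X (wFr chevG2 L (wR chevG2 (chevG2.simple j) s)) _ = X (wFr chevG2 L (wR chevG2 (chevG2.simple j) s)) _
    congr 1
    simp only [sgnWr]
    push_cast
    ring

/-- the product `n_j * nWr L` is the word `L ++ [j]` -/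
theorem nWr_append_singleton (L : List ℕ) (j : ℕ) :
    nWr hB2 F (L ++ [j]) = nU hB2 (chevG2.simple j) (one_ne_zero (α := F)) * nWr hB2 F L := by
  induction L with
  | nil => simp [nWr]
  | cons i L ih =>
    show nWr hB2 F (L ++ [j]) * nU hB2 (chevG2.simple i) (one_ne_zero (α := F)) = _
    rw [ih]
    show _ = nU hB2 (chevG2.simple j) (one_ne_zero (α := F)) *
      (nWr hB2 F L * nU hB2 (chevG2.simple i) (one_ne_zero (α := F)))
    group

/-! ### the twelve classes -/

/-- canonical words for the twelve elements of the Weyl group -/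
def words12 : List (List ℕ) :=
  [[], [0], [1], [0, 1], [1, 0], [0, 1, 0], [1, 0, 1], [0, 1, 0, 1], [1, 0, 1, 0],
    [0, 1, 0, 1, 0], [1, 0, 1, 0, 1], [0, 1, 0, 1, 0, 1]]

theorem words12_lt : ∀ L ∈ words12, ∀ j ∈ L, j < 2 := by decide

theorem W12_words : ∀ p ∈ W12, ∃ L ∈ words12, permW L = p := by decide

/-- every element of `N` is a canonical word times an element of `H` -/
theorem monomial_cases {n : GL chevG2.Idx F} (hn : n ∈ chevG2.monomialSubgroup F) :
    ∃ L ∈ words12, ∃ h ∈ chevG2.diagonalSubgroup F, n = nWr hB2 F L * h := by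
  obtain ⟨L, hL, h, hh, rfl⟩ := monomial_eq_word hn
  obtain ⟨L₀, hL₀, hp⟩ := W12_words (permW L) (permW_mem L hL)
  have hL₀' := words12_lt L₀ hL₀
  have h7 : wFr chevG2 L 7 = wFr chevG2 L₀ 7 := by
    rw [← permW_getD L (by norm_num : 7 < 12), ← permW_getD L₀ (by norm_num : 7 < 12), hp]
  have h6 : wFr chevG2 L 6 = wFr chevG2 L₀ 6 := by
    rw [← permW_getD L (by norm_num : 6 < 12), ← permW_getD L₀ (by norm_num : 6 < 12), hp]
  obtain ⟨d, hd, e⟩ := word_eq_of_key (F := F) hL hL₀' h7 h6
  refine ⟨L₀, hL₀, d * h, Subgroup.mul_mem _ hd hh, ?_⟩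
  rw [e, mul_assoc]

end Cfsg.Agent.Helper6.G2Odd
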