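import Mathlib
import Cfsg.Agent.Helper6.G2Odd.NBasic
import Cfsg.Agent.Helper2.ChevSL2

set_option autoImplicit false
set_option linter.unusedSectionVars false
set_option linter.unusedVariables false
set_option linter.unusedSimpArgs false

/-!
Rank one computations in `G₂(F)`: the homomorphisms `SL₂(F) → ⟨X_r, X_{-r}⟩` and two conjugation
lemmas for involutions of `N`.
-/

namespace Cfsg.Agent.Helper6.G2Odd

open Cfsg.Lie Cfsg.Agent.Helper6 Cfsg.Agent.Helper6.Ree Cfsg.Agent.Helper6.G2Two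
open Cfsg.Agent.Helper2.St2F Cfsg.Agent.Helper2.ChevSL2

variable {F : Type*} [Field F]

local notation "SL2" => Matrix.SpecialLinearGroup (Fin 2)

/-- the homomorphism `SL₂(F) → G₂(F)` attached to the root `r` -/
theorem phi_exists {r : ℕ} (hr : r < 12) :
    ∃ φ : SL2 F →* GL chevG2.Idx F,
      (∀ t, φ (upperSL t) = X r t) ∧ (∀ t, φ (lowerSL t) = X (11 - r) t) := by
  obtain ⟨φ, h1, h2⟩ := hasSL2_of_tabulated (F := F) g2_tab (r := r) hr
  refine ⟨φ, fun t => h1 t, fun t => ?_⟩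
  rw [h2 t, neg_eq hr]
  rfl

/-- a matrix of determinant one -/
def mk2 (a b c d : F) (h : a * d - b * c = 1) : SL2 F :=
  ⟨!![a, b; c, d], by rw [Matrix.det_fin_two_of]; exact h⟩

theorem mk2_coe (a b c d : F) (h : a * d - b * c = 1) :
    ((mk2 a b c d h : SL2 F) : Matrix (Fin 2) (Fin 2) F) = !![a, b; c, d] := rfl

@[simp] theorem mk2_00 (a b c d : F) (h : a * d - b * c = 1) : (mk2 a b c d h).1 0 0 = a := rfl
@[simp] theorem mk2_01 (a b c d : F) (h : a * d - b * c = 1) : (mk2 a b c d h).1 0 1 = b := rfl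
@[simp] theorem mk2_10 (a b c d : F) (h : a * d - b * c = 1) : (mk2 a b c d h).1 1 0 = c := rfl
@[simp] theorem mk2_11 (a b c d : F) (h : a * d - b * c = 1) : (mk2 a b c d h).1 1 1 = d := rfl

theorem sl2_ext {g g' : SL2 F} (h00 : g.1 0 0 = g'.1 0 0) (h01 : g.1 0 1 = g'.1 0 1)
    (h10 : g.1 1 0 = g'.1 1 0) (h11 : g.1 1 1 = g'.1 1 1) : g = g' := by
  apply Subtype.ext
  ext i j
  fin_cases i <;> fin_cases j <;> assumption

theorem sl2_mul_apply (g g' : SL2 F) (i j : Fin 2) :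
    (g * g').1 i j = g.1 i 0 * g'.1 0 j + g.1 i 1 * g'.1 1 j := by
  rw [Matrix.SpecialLinearGroup.coe_mul, Matrix.mul_apply, Fin.sum_univ_two]

theorem sl2_det (g : SL2 F) : g.1 0 0 * g.1 1 1 - g.1 0 1 * g.1 1 0 = 1 := by
  have := g.2
  rwa [Matrix.det_fin_two] at this

theorem upper_00 (t : F) : (upperSL t).1 0 0 = 1 := rfl
theorem upper_01 (t : F) : (upperSL t).1 0 1 = t := rfl
theorem upper_10 (t : F) : (upperSL t).1 1 0 = 0 := rfl
theorem upper_11 (t : F) : (upperSL t).1 1 1 = 1 := rfl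
theorem lower_00 (t : F) : (lowerSL t).1 0 0 = 1 := rfl
theorem lower_01 (t : F) : (lowerSL t).1 0 1 = 0 := rfl
theorem lower_10 (t : F) : (lowerSL t).1 1 0 = t := rfl
theorem lower_11 (t : F) : (lowerSL t).1 1 1 = 1 := rfl

theorem one_00 : (1 : SL2 F).1 0 0 = 1 := rfl
theorem one_01 : (1 : SL2 F).1 0 1 = 0 := rfl
theorem one_10 : (1 : SL2 F).1 1 0 = 0 := rfl
theorem one_11 : (1 : SL2 F).1 1 1 = 1 := rfl

/-- conjugation by the matrix `[[0, 1], [κ, 0]]`, as a map -/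
def tauFun (κ : F) (hκ : κ ≠ 0) (g : SL2 F) : SL2 F :=
  mk2 (g.1 1 1) (g.1 1 0 / κ) (κ * g.1 0 1) (g.1 0 0) (by
    have := sl2_det g
    field_simp
    linear_combination this)

/-- conjugation by the matrix `[[0, 1], [κ, 0]]` -/
def tauSL (κ : F) (hκ : κ ≠ 0) : SL2 F →* SL2 F where
  toFun := tauFun κ hκ
  map_one' := by
    apply sl2_ext <;> simp only [tauFun, mk2_00, mk2_01, mk2_10, mk2_11, one_00, one_01, one_10,
      one_11, zero_div, mul_zero]
  map_mul' g g' := by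
    apply sl2_ext <;> simp only [tauFun, sl2_mul_apply, mk2_00, mk2_01, mk2_10, mk2_11] <;>
      field_simp <;> ring

theorem tauSL_apply (κ : F) (hκ : κ ≠ 0) (g : SL2 F) : tauSL κ hκ g = tauFun κ hκ g := rfl

theorem tauSL_upper (κ : F) (hκ : κ ≠ 0) (t : F) : tauSL κ hκ (upperSL t) = lowerSL (κ * t) := by
  apply sl2_ext <;> simp only [tauSL_apply, tauFun, mk2_00, mk2_01, mk2_10, mk2_11, upper_00,
    upper_01, upper_10, upper_11, lower_00, lower_01, lower_10, lower_11, zero_div]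

theorem tauSL_lower (κ : F) (hκ : κ ≠ 0) (t : F) : tauSL κ hκ (lowerSL t) = upperSL (t / κ) := by
  apply sl2_ext <;> simp only [tauSL_apply, tauFun, mk2_00, mk2_01, mk2_10, mk2_11, upper_00,
    upper_01, upper_10, upper_11, lower_00, lower_01, lower_10, lower_11, mul_zero]

/-- `n_r(c) ∈ N` -/
theorem nU_mem_N' {r : ℕ} (hr : r < 12) {c : F} (hc : c ≠ 0) :
    nU hB2 r hc ∈ chevG2.monomialSubgroup F := by
  have Δ := bnG (F := F)
  have h1 := ReeCtx.hU_mem_H (K := F) hr hc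
  have h2 : nU hB2 r hc = (nU hB2 r hc * nU hB2 r (neg_ne_zero.2 (one_ne_zero (α := F)))) *
      (nU hB2 r (neg_ne_zero.2 (one_ne_zero (α := F))))⁻¹ := by group
  rw [h2]
  refine Subgroup.mul_mem _ (Δ.diag_le_monomial h1) (Subgroup.inv_mem _ ?_)
  have h3 : nU hB2 r (neg_ne_zero.2 (one_ne_zero (α := F))) =
      (nU hB2 r (one_ne_zero (α := F)))⁻¹ := by
    apply Units.ext
    rfl
  rw [h3]
  exact Subgroup.inv_mem _ (ReeCtx.nU_mem_N hr)

theorem X_inv' (r : ℕ) (t : F) : (X r t)⁻¹ = X r (-t) := X_inv r t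

/-- the reduction lemma: an involution `n` of `N` sending `x_r(u)` to `x_{-r}(δ² u)` is conjugate to
the involution `n_{-r}(δ) n` of `N` -/
theorem lemmaR [Fintype F] (hq : Odd (Fintype.card F)) {n : GL chevG2.Idx F}
    (hn : n ∈ chevG2.monomialSubgroup F) (hnn : n * n = 1) {r : ℕ} (hr6 : 6 ≤ r) (hr : r < 12)
    {δ : F} (hδ : δ ≠ 0) (hconj : ∀ u, n * X r u * n⁻¹ = X (11 - r) (δ * δ * u)) :
    nU hB2 (11 - r) hδ * n * (nU hB2 (11 - r) hδ * n) = 1 ∧
      ∃ g ∈ chevG2.group F, g * n * g⁻¹ = nU hB2 (11 - r) hδ * n := by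
  have hr' : 11 - r < 12 := by omega
  have hrr : 11 - (11 - r) = r := by omega
  have hninv : n⁻¹ = n := inv_eq_of_mul_eq_one_left hnn
  -- the action on the opposite root subgroup
  have hconj' : ∀ u, n * X (11 - r) u * n⁻¹ = X r (u / (δ * δ)) := by
    intro u
    have h1 := hconj (u / (δ * δ))
    have e : δ * δ * (u / (δ * δ)) = u := by field_simp
    rw [e] at h1
    rw [← h1, hninv]
    calc n * (n * X r (u / (δ * δ)) * n) * n = (n * n) * X r (u / (δ * δ)) * (n * n) := by group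
      _ = _ := by rw [hnn, one_mul, mul_one]
  set m := nU hB2 (11 - r) hδ * n with hm
  have hmN : m ∈ chevG2.monomialSubgroup F := Subgroup.mul_mem _ (nU_mem_N' hr' hδ) hn
  -- the conjugate by `x_{-r}(δ)`
  have key : X (11 - r) δ * n * (X (11 - r) δ)⁻¹ = m * X r (-δ⁻¹) := by
    have e1 : n * X (11 - r) (-δ) = X r (-δ⁻¹) * n := by
      have h1 := hconj' (-δ)
      have e : -δ / (δ * δ) = -δ⁻¹ := by field_simp
      rw [e] at h1
      rw [← h1]; group
    have e2 : X (11 - r) δ * X r (-δ⁻¹) = nU hB2 (11 - r) hδ * X (11 - r) (-δ) := by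
      rw [nU_eq hr' hδ, hrr, mul_assoc, mul_assoc, X_add, add_neg_cancel, X_zero, mul_one]
    have e3 : X (11 - r) (-δ) * n = n * X r (-δ⁻¹) := by
      have h1 := hconj (-δ⁻¹)
      have e : δ * δ * -δ⁻¹ = -δ := by field_simp
      rw [e] at h1
      rw [← h1]; group
    calc X (11 - r) δ * n * (X (11 - r) δ)⁻¹ = X (11 - r) δ * (n * X (11 - r) (-δ)) := by
          rw [X_inv', mul_assoc]
      _ = (X (11 - r) δ * X r (-δ⁻¹)) * n := by rw [e1, mul_assoc]
      _ = nU hB2 (11 - r) hδ * (X (11 - r) (-δ) * n) := by rw [e2, mul_assoc]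
      _ = m * X r (-δ⁻¹) := by rw [e3, hm, mul_assoc]
  have hv : X r (-δ⁻¹) ∈ chevG2.posUnipotent F := G2Two.X_mem_U hr6 hr _
  have h2 : m * X r (-δ⁻¹) * (m * X r (-δ⁻¹)) = 1 := by
    rw [← key]
    calc X (11 - r) δ * n * (X (11 - r) δ)⁻¹ * (X (11 - r) δ * n * (X (11 - r) δ)⁻¹)
        = X (11 - r) δ * (n * n) * (X (11 - r) δ)⁻¹ := by group
      _ = 1 := by rw [hnn]; group
  obtain ⟨hmm, w, hw, hwe⟩ := invol_nv hq hmN hv h2
  refine ⟨hmm, w * X (11 - r) δ, Subgroup.mul_mem _ hw (X_mem_group hr' _), ?_⟩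
  calc w * X (11 - r) δ * n * (w * X (11 - r) δ)⁻¹
      = w * (X (11 - r) δ * n * (X (11 - r) δ)⁻¹) * w⁻¹ := by group
    _ = m := by rw [key, hwe]

/-- the torus move: an involution `n` of `N` sending `x_β(u)` to `x_{-β}(κ u)` is conjugate to
`h_β(μ) n`, whenever `μ = p² - κ q²` -/
theorem lemmaS {n : GL chevG2.Idx F} (hnn : n * n = 1) {β : ℕ} (hβ : β < 12)
    {κ : F} (hκ : κ ≠ 0) (hconj : ∀ u, n * X β u * n⁻¹ = X (11 - β) (κ * u))
    {μ p q : F} (hμ : μ ≠ 0) (hpq : p * p - κ * q * q = μ) :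
    ∃ g ∈ chevG2.group F, g * n * g⁻¹ =
      nU hB2 β hμ * nU hB2 β (neg_ne_zero.2 (one_ne_zero (α := F))) * n := by
  have hβ' : 11 - β < 12 := by omega
  have hninv : n⁻¹ = n := inv_eq_of_mul_eq_one_left hnn
  have hconj' : ∀ u, n * X (11 - β) u * n⁻¹ = X β (u / κ) := by
    intro u
    have h1 := hconj (u / κ)
    have e : κ * (u / κ) = u := by field_simp
    rw [e] at h1
    rw [← h1, hninv]
    calc n * (n * X β (u / κ) * n) * n = (n * n) * X β (u / κ) * (n * n) := by group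
      _ = _ := by rw [hnn, one_mul, mul_one]
  obtain ⟨φ, hφ1, hφ2⟩ := phi_exists (F := F) hβ
  -- conjugation by `n` on the image of `φ`
  have hψ : (MulAut.conj n).toMonoidHom.comp φ = φ.comp (tauSL κ hκ) := by
    apply MonoidHom.eq_of_eqOn_dense (closure_upper_lower (K := F))
    rintro g (⟨t, rfl⟩ | ⟨t, rfl⟩)
    · show n * φ (upperSL t) * n⁻¹ = φ (tauSL κ hκ (upperSL t))
      rw [hφ1, tauSL_upper, hφ2, hconj]
    · show n * φ (lowerSL t) * n⁻¹ = φ (tauSL κ hκ (lowerSL t))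
      rw [hφ2, tauSL_lower, hφ1, hconj']
  have hψ' : ∀ g : SL2 F, n * φ g * n⁻¹ = φ (tauSL κ hκ g) := fun g => DFunLike.congr_fun hψ g
  -- the conjugating element
  have hdet : p * (p / μ) - q * (κ * q / μ) = 1 := by
    field_simp
    linear_combination hpq
  set g₀ : SL2 F := mk2 p q (κ * q / μ) (p / μ) hdet with hg₀
  have hdμ : μ * μ⁻¹ - 0 * 0 = 1 := by rw [mul_inv_cancel₀ hμ]; ring
  set dμ : SL2 F := mk2 μ 0 0 μ⁻¹ hdμ with hdμ'
  have e1 : g₀ = dμ * tauSL κ hκ g₀ := by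
    apply sl2_ext <;> simp only [hg₀, hdμ', tauSL_apply, tauFun, sl2_mul_apply, mk2_00, mk2_01,
      mk2_10, mk2_11] <;> field_simp <;> ring
  -- `φ dμ = h_β(μ)`
  have e2 : φ dμ = nU hB2 β hμ * nU hB2 β (neg_ne_zero.2 (one_ne_zero (α := F))) := by
    rw [nU_eq hβ hμ, nU_eq hβ (neg_ne_zero.2 (one_ne_zero (α := F))), ← hφ1, ← hφ2, ← hφ1, ← hφ2,
      ← map_mul, ← map_mul, ← map_mul, ← map_mul, ← map_mul]
    congr 1
    apply sl2_ext <;> simp only [hdμ', sl2_mul_apply, mk2_00, mk2_01, mk2_10, mk2_11, upper_00,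
      upper_01, upper_10, upper_11, lower_00, lower_01, lower_10, lower_11] <;>
      field_simp <;> ring
  refine ⟨φ g₀, ?_, ?_⟩
  · have hle : φ.range ≤ chevG2.group F := by
      rw [MonoidHom.range_eq_map, ← closure_upper_lower, MonoidHom.map_closure, Subgroup.closure_le]
      rintro _ ⟨g, hg | hg, rfl⟩
      · obtain ⟨t, rfl⟩ := hg
        rw [hφ1]; exact X_mem_group hβ _
      · obtain ⟨t, rfl⟩ := hg
        rw [hφ2]; exact X_mem_group hβ' _
    exact hle ⟨g₀, rfl⟩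
  · have e3 : n * (φ g₀)⁻¹ * n⁻¹ = (φ (tauSL κ hκ g₀))⁻¹ := by
      rw [← hψ' g₀]; group
    calc φ g₀ * n * (φ g₀)⁻¹ = φ g₀ * (n * (φ g₀)⁻¹ * n⁻¹) * n := by group
      _ = φ g₀ * (φ (tauSL κ hκ g₀))⁻¹ * n := by rw [e3]
      _ = φ dμ * n := by
          nth_rewrite 1 [e1]
          rw [map_mul]; group
      _ = _ := by rw [e2]

end Cfsg.Agent.Helper6.G2Odd
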