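import Mathlib
import Cfsg.Agent.Helper6.G2Odd.Rank1
import Cfsg.Agent.Helper6.Chev.TorusCard

set_option autoImplicit false
set_option linter.unusedSectionVars false
set_option linter.unusedVariables false
set_option linter.unusedSimpArgs false

/-!
Calculus in the torus `H` of `G₂(F)`: the elements `tor a b = h_a(a) h_b(b)`.
-/

namespace Cfsg.Agent.Helper6.G2Odd

open Cfsg.Lie Cfsg.Agent.Helper6 Cfsg.Agent.Helper6.Ree Cfsg.Agent.Helper6.G2Two
open Cfsg.Agent.Helper2.St2F Cfsg.Agent.Helper2.ChevSL2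

variable {F : Type*} [Field F]

local notation "SL2" => Matrix.SpecialLinearGroup (Fin 2)

/-- the torus element `h_a(a) h_b(b)` -/
def torPar (a b : Fˣ) : Fin chevG2.rank → Fˣ := fun i => if i.val = 0 then a else b

/-- the torus element `h_a(a) h_b(b)` -/
def tor (a b : Fˣ) : GL chevG2.Idx F := torHom chevG2 F (torPar a b)

/-- the parameters of `tor a b` -/
def par (a b : Fˣ) : ℕ → F := extPar chevG2 (torPar a b)

theorem par_zero (a b : Fˣ) : par a b 0 = (a : F) := by
  unfold par extPar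
  rw [dif_pos (by decide)]
  rfl

theorem par_one (a b : Fˣ) : par a b 1 = (b : F) := by
  unfold par extPar
  rw [dif_pos (by decide)]
  rfl

theorem torPar_mul (a b a' b' : Fˣ) : torPar a b * torPar a' b' = torPar (a * a') (b * b') := by
  funext i
  unfold torPar
  rw [Pi.mul_apply]
  split_ifs <;> rfl

theorem torPar_one : torPar (1 : Fˣ) 1 = 1 := by
  funext i
  unfold torPar
  split_ifs <;> rfl

theorem par_ne_zero (a b : Fˣ) (k : ℕ) : par a b k ≠ 0 := extPar_ne_zero _ k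

theorem tor_val (a b : Fˣ) :
    ((tor a b : GL chevG2.Idx F) : Matrix chevG2.Idx chevG2.Idx F) = torMat chevG2 F (par a b) := rfl

theorem tor_mul (a b a' b' : Fˣ) : tor a b * tor a' b' = (tor (a * a') (b * b') : GL chevG2.Idx F) := by
  unfold tor
  rw [← map_mul, torPar_mul]

theorem tor_one : (tor 1 1 : GL chevG2.Idx F) = 1 := by
  unfold tor
  rw [torPar_one, map_one]

theorem tor_inv (a b : Fˣ) : (tor a b : GL chevG2.Idx F)⁻¹ = tor a⁻¹ b⁻¹ := by
  rw [inv_eq_iff_mul_eq_one, tor_mul, mul_inv_cancel, mul_inv_cancel, tor_one]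

theorem tor_mem_H (a b : Fˣ) : (tor a b : GL chevG2.Idx F) ∈ chevG2.diagonalSubgroup F := by
  have Δ := bnG (F := F)
  rw [← range_torHom Δ.hB Δ.hAll Δ.hH]
  exact ⟨_, rfl⟩

theorem exists_tor {h : GL chevG2.Idx F} (hh : h ∈ chevG2.diagonalSubgroup F) :
    ∃ a b : Fˣ, h = tor a b := by
  have Δ := bnG (F := F)
  rw [← range_torHom Δ.hB Δ.hAll Δ.hH] at hh
  obtain ⟨c, rfl⟩ := hh
  refine ⟨c ⟨0, by decide⟩, c ⟨1, by decide⟩, ?_⟩
  unfold tor
  congr 1
  funext i
  unfold torPar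
  have hi : i.val < 2 := i.isLt
  split_ifs with h
  · congr 1; exact Fin.ext h
  · congr 1; apply Fin.ext; show i.val = 1; omega

/-- an element with a torus matrix is the torus element -/
theorem eq_tor_of_val {h : GL chevG2.Idx F} {c : ℕ → F} {a b : Fˣ}
    (hv : (h : Matrix chevG2.Idx chevG2.Idx F) = torMat chevG2 F c) (h0 : c 0 = (a : F))
    (h1 : c 1 = (b : F)) : h = tor a b := by
  apply Units.ext
  rw [hv, tor_val]
  apply torMat_congr
  intro i hi
  have : chevG2.rank = 2 := rfl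
  rw [this] at hi
  interval_cases i
  · rw [h0, par_zero]
  · rw [h1, par_one]

/-- the character of the torus on the root `r` -/
def chi (a b : Fˣ) (r : ℕ) : F :=
  (a : F) ^ chevG2.cartan 0 r * (b : F) ^ chevG2.cartan 1 r

theorem chi_ne_zero (a b : Fˣ) (r : ℕ) : chi a b r ≠ 0 :=
  mul_ne_zero (zpow_ne_zero _ a.ne_zero) (zpow_ne_zero _ b.ne_zero)

theorem tor_conj_X (a b : Fˣ) {r : ℕ} (hr : r < 12) (t : F) :
    tor a b * X r t * (tor a b)⁻¹ = X r (chi a b r * t) := by
  have Δ := bnG (F := F)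
  rw [mul_inv_eq_iff_eq_mul]
  apply Units.ext
  rw [Units.val_mul, Units.val_mul, tor_val, X_val, X_val]
  have := torMat_mul_x Δ.hB Δ.hAdd (par_ne_zero a b) hr t
  rw [torChar_g2, par_zero, par_one] at this
  exact this

theorem chi_6 (a b : Fˣ) : chi a b 6 = (b : F) ^ 2 / (a : F) ^ 3 := by
  unfold chi
  have h1 : chevG2.cartan 0 6 = -3 := by decide
  have h2 : chevG2.cartan 1 6 = 2 := by decide
  rw [h1, h2, zpow_neg, zpow_ofNat, zpow_ofNat]
  ring

theorem chi_7 (a b : Fˣ) : chi a b 7 = (a : F) ^ 2 / (b : F) := by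
  unfold chi
  have h1 : chevG2.cartan 0 7 = 2 := by decide
  have h2 : chevG2.cartan 1 7 = -1 := by decide
  rw [h1, h2, zpow_neg, zpow_ofNat, zpow_one]
  ring

theorem chi_8 (a b : Fˣ) : chi a b 8 = (b : F) / (a : F) := by
  unfold chi
  have h1 : chevG2.cartan 0 8 = -1 := by decide
  have h2 : chevG2.cartan 1 8 = 1 := by decide
  rw [h1, h2, zpow_neg, zpow_one, zpow_one]
  ring

theorem chi_9 (a b : Fˣ) : chi a b 9 = (a : F) := by
  unfold chi
  have h1 : chevG2.cartan 0 9 = 1 := by decide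
  have h2 : chevG2.cartan 1 9 = 0 := by decide
  rw [h1, h2]
  simp

theorem chi_10 (a b : Fˣ) : chi a b 10 = (a : F) ^ 3 / (b : F) := by
  unfold chi
  have h1 : chevG2.cartan 0 10 = 3 := by decide
  have h2 : chevG2.cartan 1 10 = -1 := by decide
  rw [h1, h2, zpow_neg, zpow_ofNat, zpow_one]
  ring

theorem chi_11 (a b : Fˣ) : chi a b 11 = (b : F) := by
  unfold chi
  have h1 : chevG2.cartan 0 11 = 0 := by decide
  have h2 : chevG2.cartan 1 11 = 1 := by decide
  rw [h1, h2]
  simp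

theorem cartan_neg : ∀ r < 12, chevG2.cartan 0 (11 - r) = -chevG2.cartan 0 r ∧
    chevG2.cartan 1 (11 - r) = -chevG2.cartan 1 r := by decide

theorem chi_neg (a b : Fˣ) {r : ℕ} (hr : r < 12) : chi a b (11 - r) = (chi a b r)⁻¹ := by
  unfold chi
  rw [(cartan_neg r hr).1, (cartan_neg r hr).2, zpow_neg, zpow_neg, mul_inv]

/-- `tor a b` is determined by its parameters -/
theorem tor_inj {a b a' b' : Fˣ} (h : (tor a b : GL chevG2.Idx F) = tor a' b') : a = a' ∧ b = b' := by
  have h9 : X 9 (chi a b 9 * 1) = X 9 (chi a' b' 9 * 1) := by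
    rw [← tor_conj_X a b (by norm_num) 1, ← tor_conj_X a' b' (by norm_num) 1, h]
  have h11 : X 11 (chi a b 11 * 1) = X 11 (chi a' b' 11 * 1) := by
    rw [← tor_conj_X a b (by norm_num) 1, ← tor_conj_X a' b' (by norm_num) 1, h]
  have e9 := X_inj (by norm_num) h9
  have e11 := X_inj (by norm_num) h11
  rw [chi_9, chi_9, mul_one, mul_one] at e9
  rw [chi_11, chi_11, mul_one, mul_one] at e11
  exact ⟨Units.ext e9, Units.ext e11⟩

theorem tor_eq_one {a b : Fˣ} (h : (tor a b : GL chevG2.Idx F) = 1) : a = 1 ∧ b = 1 := by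
  rw [← tor_one] at h
  exact tor_inj h

/-! ### the elements `n_a`, `n_b` -/

/-- the element `n_a = n_a(1)` -/
def nA (F : Type*) [Field F] : GL chevG2.Idx F := nU hB2 7 (one_ne_zero (α := F))

/-- the element `n_b = n_b(1)` -/
def nB (F : Type*) [Field F] : GL chevG2.Idx F := nU hB2 6 (one_ne_zero (α := F))

theorem nWr_single (j : ℕ) :
    nWr hB2 F [j] = nU hB2 (chevG2.simple j) (one_ne_zero (α := F)) := by
  show 1 * _ = _
  rw [one_mul]

theorem nA_eq : nA F = nWr hB2 F [0] := (nWr_single 0).symm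
theorem nB_eq : nB F = nWr hB2 F [1] := (nWr_single 1).symm

theorem nA_mem_N : nA F ∈ chevG2.monomialSubgroup F := ReeCtx.nU_mem_N (by norm_num)
theorem nB_mem_N : nB F ∈ chevG2.monomialSubgroup F := ReeCtx.nU_mem_N (by norm_num)

/-- `h_r(t)` in coordinates -/
theorem hU_tor {r : ℕ} (hr : r < 12) (t : Fˣ) :
    nU hB2 r t.ne_zero * nU hB2 r (neg_ne_zero.2 (one_ne_zero (α := F))) =
      tor (t ^ corootC chevG2 r 0) (t ^ corootC chevG2 r 1) := by
  have Δ := bnG (F := F)
  have hv : ((nU hB2 r t.ne_zero * nU hB2 r (neg_ne_zero.2 (one_ne_zero (α := F))) :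
      GL chevG2.Idx F) : Matrix chevG2.Idx chevG2.Idx F) = chevG2.hMat F r (t : F) := by
    rw [Units.val_mul, nU_val, nU_val]
    unfold ChevalleyDatum.hMat ChevalleyDatum.hWord ChevalleyDatum.nMat ChevalleyDatum.wordMat
    rw [List.map_append, List.prod_append]
  rw [hMat_eq_torMat (Δ.hH r hr) t.ne_zero] at hv
  exact eq_tor_of_val hv (by rw [Units.val_zpow_eq_zpow_val]) (by rw [Units.val_zpow_eq_zpow_val])

theorem hU_tor7 (t : Fˣ) :
    nU hB2 7 t.ne_zero * nU hB2 7 (neg_ne_zero.2 (one_ne_zero (α := F))) = tor t 1 := by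
  rw [hU_tor (by norm_num) t, corootC_7.1, corootC_7.2, zpow_one, zpow_zero]

theorem hU_tor6 (t : Fˣ) :
    nU hB2 6 t.ne_zero * nU hB2 6 (neg_ne_zero.2 (one_ne_zero (α := F))) = tor 1 t := by
  rw [hU_tor (by norm_num) t, corootC_6.1, corootC_6.2, zpow_one, zpow_zero]

theorem nU_neg_one_eq {r : ℕ} (hr : r < 12) :
    nU hB2 r (neg_ne_zero.2 (one_ne_zero (α := F))) = (nU hB2 r (one_ne_zero (α := F)))⁻¹ := by
  apply Units.ext
  rfl

/-- the matrix `[[0, t], [-1/t, 0]]` -/
def wSL (t : F) (ht : t ≠ 0) : SL2 F := mk2 0 t (-t⁻¹) 0 (by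
  rw [mul_neg, sub_neg_eq_add, mul_inv_cancel₀ ht]; ring)

theorem wSL_eq (t : F) (ht : t ≠ 0) : wSL t ht = upperSL t * lowerSL (-t⁻¹) * upperSL t := by
  apply sl2_ext <;> simp only [wSL, sl2_mul_apply, mk2_00, mk2_01, mk2_10, mk2_11, upper_00,
    upper_01, upper_10, upper_11, lower_00, lower_01, lower_10, lower_11] <;> field_simp <;> ring

theorem wSL_eq' (t : F) (ht : t ≠ 0) :
    wSL (-t⁻¹) (neg_ne_zero.2 (inv_ne_zero ht)) = lowerSL t * upperSL (-t⁻¹) * lowerSL t := by
  apply sl2_ext <;> simp only [wSL, sl2_mul_apply, mk2_00, mk2_01, mk2_10, mk2_11, upper_00,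
    upper_01, upper_10, upper_11, lower_00, lower_01, lower_10, lower_11] <;> field_simp <;> ring

theorem phi_wSL {r : ℕ} (hr : r < 12) {φ : SL2 F →* GL chevG2.Idx F}
    (h1 : ∀ t, φ (upperSL t) = X r t) (h2 : ∀ t, φ (lowerSL t) = X (11 - r) t) (t : F) (ht : t ≠ 0) :
    φ (wSL t ht) = nU hB2 r ht := by
  rw [wSL_eq, map_mul, map_mul, h1, h2, nU_eq hr ht]

/-- `n_{-r}(t) = n_r(-1/t)` -/
theorem nU_neg_eq {r : ℕ} (hr : r < 12) {t : F} (ht : t ≠ 0) :
    nU hB2 (11 - r) ht = nU hB2 r (neg_ne_zero.2 (inv_ne_zero ht)) := by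
  obtain ⟨φ, h1, h2⟩ := phi_exists (F := F) hr
  have hr' : 11 - r < 12 := by omega
  have hrr : 11 - (11 - r) = r := by omega
  rw [← phi_wSL hr h1 h2 (-t⁻¹) (neg_ne_zero.2 (inv_ne_zero ht)), wSL_eq' t ht, map_mul, map_mul, h1, h2,
    nU_eq hr' ht, hrr]

/-- `n_r(1)² = h_r(-1)` -/
theorem nU_sq {r : ℕ} (hr : r < 12) :
    nU hB2 r (one_ne_zero (α := F)) * nU hB2 r (one_ne_zero (α := F)) =
      nU hB2 r (neg_ne_zero.2 (one_ne_zero (α := F))) *
        nU hB2 r (neg_ne_zero.2 (one_ne_zero (α := F))) := by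
  obtain ⟨φ, h1, h2⟩ := phi_exists (F := F) hr
  rw [← phi_wSL hr h1 h2, ← phi_wSL hr h1 h2, ← map_mul, ← map_mul]
  congr 1
  apply sl2_ext <;> simp only [wSL, sl2_mul_apply, mk2_00, mk2_01, mk2_10, mk2_11] <;>
    field_simp <;> ring

theorem nA_sq : nA F * nA F = tor (-1) 1 := by
  unfold nA
  rw [nU_sq (by norm_num)]
  exact hU_tor7 (-1)

theorem nB_sq : nB F * nB F = tor 1 (-1) := by
  unfold nB
  rw [nU_sq (by norm_num)]
  exact hU_tor6 (-1)

/-- conjugation of the torus by `n_a` -/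
theorem nA_conj_tor (a b : Fˣ) : nA F * tor a b * (nA F)⁻¹ = tor (a⁻¹ * b) b := by
  have Δ := bnG (F := F)
  rw [mul_inv_eq_iff_eq_mul]
  apply Units.ext
  rw [Units.val_mul, Units.val_mul, tor_val, tor_val]
  have h := nMat_mul_torMat (F := F) Δ.hB (Δ.hAll 0 (by decide)) (par_ne_zero a b)
  have e : torMat chevG2 F (torConj chevG2 0 (par a b)) = torMat chevG2 F (par (a⁻¹ * b) b) := by
    apply torMat_congr
    intro i hi
    have : chevG2.rank = 2 := rfl
    rw [this] at hi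
    unfold torConj
    rw [this, Finset.prod_range_succ, Finset.prod_range_succ, Finset.prod_range_zero, one_mul,
      par_zero, par_one]
    have h1 : chevG2.cartan 0 (chevG2.simple 0) = 2 := by decide
    have h2 : chevG2.cartan 1 (chevG2.simple 0) = -1 := by decide
    rw [h1, h2]
    interval_cases i
    · rw [if_pos rfl, par_zero, par_zero, Units.val_mul, Units.val_inv_eq_inv_val]
      simp only [zpow_neg, neg_neg, zpow_one, zpow_ofNat]
      field_simp
    · rw [if_neg (by norm_num), par_one, par_one, mul_one]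
  rw [e] at h
  exact h

/-- conjugation of the torus by `n_b` -/
theorem nB_conj_tor (a b : Fˣ) : nB F * tor a b * (nB F)⁻¹ = tor a (a ^ 3 * b⁻¹) := by
  have Δ := bnG (F := F)
  rw [mul_inv_eq_iff_eq_mul]
  apply Units.ext
  rw [Units.val_mul, Units.val_mul, tor_val, tor_val]
  have h := nMat_mul_torMat (F := F) Δ.hB (Δ.hAll 1 (by decide)) (par_ne_zero a b)
  have e : torMat chevG2 F (torConj chevG2 1 (par a b)) = torMat chevG2 F (par a (a ^ 3 * b⁻¹)) := by
    apply torMat_congr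
    intro i hi
    have : chevG2.rank = 2 := rfl
    rw [this] at hi
    unfold torConj
    rw [this, Finset.prod_range_succ, Finset.prod_range_succ, Finset.prod_range_zero, one_mul,
      par_zero, par_one]
    have h1 : chevG2.cartan 0 (chevG2.simple 1) = -3 := by decide
    have h2 : chevG2.cartan 1 (chevG2.simple 1) = 2 := by decide
    rw [h1, h2]
    interval_cases i
    · rw [if_neg (by norm_num), par_zero, par_zero, mul_one]
    · rw [if_pos rfl, par_one, par_one, Units.val_mul, Units.val_inv_eq_inv_val, Units.val_pow_eq_pow_val]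
      simp only [zpow_neg, neg_neg, zpow_one, zpow_ofNat]
      field_simp
  rw [e] at h
  exact h

end Cfsg.Agent.Helper6.G2Odd
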