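import Mathlib
import Cfsg.Agent.Helper6.G2Odd.Torus

set_option autoImplicit false
set_option linter.unusedSectionVars false
set_option linter.unusedVariables false
set_option linter.unusedSimpArgs false

/-!
Involutions of `N` in `G₂(q)`, `q` odd: each of them is conjugate to an element of `H`.
-/

namespace Cfsg.Agent.Helper6.G2Odd

open Cfsg.Lie Cfsg.Agent.Helper6 Cfsg.Agent.Helper6.Ree Cfsg.Agent.Helper6.G2Two
open Cfsg.Agent.Helper2.St2F Cfsg.Agent.Helper2.ChevSL2

variable {F : Type*} [Field F]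

/-- conjugate to an element of the torus -/
def GoodH (n : GL chevG2.Idx F) : Prop :=
  ∃ g ∈ chevG2.group F, g * n * g⁻¹ ∈ chevG2.diagonalSubgroup F

theorem GoodH.of_conj {n g : GL chevG2.Idx F} (hg : g ∈ chevG2.group F) (h : GoodH (g * n * g⁻¹)) :
    GoodH n := by
  obtain ⟨g', hg', h'⟩ := h
  refine ⟨g' * g, Subgroup.mul_mem _ hg' hg, ?_⟩
  have : g' * g * n * (g' * g)⁻¹ = g' * (g * n * g⁻¹) * g'⁻¹ := by group
  rw [this]; exact h'

theorem GoodH.of_eq_conj {n m g : GL chevG2.Idx F} (hg : g ∈ chevG2.group F)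
    (e : g * n * g⁻¹ = m) (h : GoodH m) : GoodH n :=
  GoodH.of_conj hg (e ▸ h)

theorem conj_sq_one {n g : GL chevG2.Idx F} (h : n * n = 1) : g * n * g⁻¹ * (g * n * g⁻¹) = 1 := by
  calc g * n * g⁻¹ * (g * n * g⁻¹) = g * (n * n) * g⁻¹ := by group
    _ = 1 := by rw [h]; group

/-- the action of a word times a torus element on the root elements -/
theorem word_conj {L : List ℕ} (hL : ∀ j ∈ L, j < 2) (a b : Fˣ) {s : ℕ} (hs : s < 12) (u : F) :
    (nWr hB2 F L * tor a b) * X s u * (nWr hB2 F L * tor a b)⁻¹ =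
      X (wFr chevG2 L s) (((sgnWr L s : ℤ) : F) * (chi a b s * u)) := by
  calc (nWr hB2 F L * tor a b) * X s u * (nWr hB2 F L * tor a b)⁻¹
      = nWr hB2 F L * (tor a b * X s u * (tor a b)⁻¹) * (nWr hB2 F L)⁻¹ := by group
    _ = _ := by rw [tor_conj_X a b hs, nWr_conj_sgn hL hs]

theorem wFr_lt12 {L : List ℕ} (hL : ∀ j ∈ L, j < 2) {s : ℕ} (hs : s < 12) :
    wFr chevG2 L s < 12 := (bnG (F := ℚ)).wFr_lt hL hs

theorem sgnWr_ne_zero (L : List ℕ) (hL : ∀ j ∈ L, j < 2) {s : ℕ} (hs : s < 12) :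
    ((sgnWr L s : ℤ) : F) * ((sgnWr L s : ℤ) : F) = 1 := by
  have Δ := bnG (F := F)
  induction L generalizing s with
  | nil => simp [sgnWr]
  | cons j L ih =>
    have hj : j < 2 := hL j List.mem_cons_self
    have hA := Δ.hAll j hj
    have hws : wR chevG2 (chevG2.simple j) s < 12 := wR_lt Δ.hB hA.hS.1 hA.hR hs
    have h1 := etaR_sq (F := F) Δ.hB hA hs
    have h2 := ih (fun i hi => hL i (List.mem_cons_of_mem _ hi)) hws
    simp only [sgnWr]
    push_cast
    calc _ = (((etaR chevG2 (chevG2.simple j) s : ℤ) : F) * ((etaR chevG2 (chevG2.simple j) s : ℤ) : F)) *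
        (((sgnWr L (wR chevG2 (chevG2.simple j) s) : ℤ) : F) *
          ((sgnWr L (wR chevG2 (chevG2.simple j) s) : ℤ) : F)) := by ring
      _ = 1 := by rw [h1, h2, one_mul]

/-- the permutation of an involution of `N` is an involution -/
theorem perm_invol {L : List ℕ} (hL : ∀ j ∈ L, j < 2) {a b : Fˣ}
    (h2 : nWr hB2 F L * tor a b * (nWr hB2 F L * tor a b) = 1) {s : ℕ} (hs : s < 12) :
    wFr chevG2 L (wFr chevG2 L s) = s := by
  set n := nWr hB2 F L * tor a b with hn
  have hs' := wFr_lt12 hL hs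
  have e1 : n * (n * X s 1 * n⁻¹) * n⁻¹ = X s 1 := by
    calc n * (n * X s 1 * n⁻¹) * n⁻¹ = (n * n) * X s 1 * (n * n)⁻¹ := by group
      _ = X s 1 := by rw [h2]; group
  rw [word_conj hL a b hs, word_conj hL a b hs'] at e1
  exact (X_root_inj hs (wFr_lt12 hL hs') one_ne_zero e1.symm).symm


/-! ### conjugation by `n_a`, `n_b` -/

theorem nA_conj_X {s : ℕ} (hs : s < 12) (t : F) :
    nA F * X s t * (nA F)⁻¹ = X (wR chevG2 7 s) (((etaR chevG2 7 s : ℤ) : F) * t) :=
  nU_conj_xU (F := F) hB2 ((bnG (F := F)).hAll 0 (by decide)) hs t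

theorem nB_conj_X {s : ℕ} (hs : s < 12) (t : F) :
    nB F * X s t * (nB F)⁻¹ = X (wR chevG2 6 s) (((etaR chevG2 6 s : ℤ) : F) * t) :=
  nU_conj_xU (F := F) hB2 ((bnG (F := F)).hAll 1 (by decide)) hs t

theorem nU_congr {r : ℕ} {c c' : F} (h : c = c') (hc : c ≠ 0) (hc' : c' ≠ 0) :
    nU hB2 r hc = nU hB2 r hc' := by
  subst h; rfl

theorem nU7_eq (t : Fˣ) : nU hB2 7 t.ne_zero = tor t 1 * nA F := by
  have h := hU_tor7 t
  rw [nU_neg_one_eq (by norm_num)] at h
  rw [← h]; unfold nA; group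

theorem nU6_eq (t : Fˣ) : nU hB2 6 t.ne_zero = tor 1 t * nB F := by
  have h := hU_tor6 t
  rw [nU_neg_one_eq (by norm_num)] at h
  rw [← h]; unfold nB; group

theorem nU4_eq (t : Fˣ) : nU hB2 4 t.ne_zero = tor (-t⁻¹) 1 * nA F := by
  have h := nU_neg_eq (F := F) (r := 7) (by norm_num) t.ne_zero
  change nU hB2 4 t.ne_zero = _ at h
  rw [h, ← nU7_eq]
  apply nU_congr
  rw [Units.val_neg, Units.val_inv_eq_inv_val]

theorem nU5_eq (t : Fˣ) : nU hB2 5 t.ne_zero = tor 1 (-t⁻¹) * nB F := by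
  have h := nU_neg_eq (F := F) (r := 6) (by norm_num) t.ne_zero
  change nU hB2 5 t.ne_zero = _ at h
  rw [h, ← nU6_eq]
  apply nU_congr
  rw [Units.val_neg, Units.val_inv_eq_inv_val]

theorem wR_eta_77 : wR chevG2 7 7 = 4 ∧ etaR chevG2 7 7 = -1 := by decide
theorem wR_eta_66 : wR chevG2 6 6 = 5 ∧ etaR chevG2 6 6 = -1 := by decide

section finite

variable [Fintype F]

/-- involutions of type `a` -/
theorem good_a (hq : Odd (Fintype.card F)) {a b : Fˣ}
    (h2 : nA F * tor a b * (nA F * tor a b) = 1) : GoodH (nA F * tor a b) := by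
  have Δ := bnG (F := F)
  -- `b = -1`
  have e1 : nA F * tor a b * (nA F * tor a b) = tor (a⁻¹ * b * -1 * a) (b * 1 * b) := by
    calc nA F * tor a b * (nA F * tor a b)
        = (nA F * tor a b * (nA F)⁻¹) * (nA F * nA F) * tor a b := by group
      _ = _ := by rw [nA_conj_tor, nA_sq, tor_mul, tor_mul]
  rw [e1] at h2
  obtain ⟨h3, -⟩ := tor_eq_one h2
  have hb : (b : F) = -1 := by
    have := congrArg Units.val h3
    simp only [Units.val_mul, Units.val_neg, Units.val_one, Units.val_inv_eq_inv_val] at this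
    have ha := a.ne_zero
    field_simp at this
    linear_combination -this
  set n := nA F * tor a b with hn
  have hnN : n ∈ chevG2.monomialSubgroup F :=
    Subgroup.mul_mem _ nA_mem_N (Δ.diag_le_monomial (tor_mem_H a b))
  have hnn : n * n = 1 := by rw [hn, e1]; exact h2
  -- the action on `X_a`
  have hconj : ∀ u, n * X 7 u * n⁻¹ = X (11 - 7) ((a : F) * a * u) := by
    intro u
    calc n * X 7 u * n⁻¹ = nA F * (tor a b * X 7 u * (tor a b)⁻¹) * (nA F)⁻¹ := by rw [hn]; group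
      _ = X 4 (((-1 : ℤ) : F) * (chi a b 7 * u)) := by
          rw [tor_conj_X a b (by norm_num), nA_conj_X (by norm_num), wR_eta_77.1, wR_eta_77.2]
      _ = _ := by
          show X 4 _ = X 4 _
          congr 1
          rw [chi_7, hb]
          push_cast
          field_simp
  obtain ⟨-, g, hg, hge⟩ := lemmaR hq hnN hnn (by norm_num) (by norm_num) a.ne_zero hconj
  refine ⟨g, hg, ?_⟩
  rw [hge]
  change nU hB2 4 a.ne_zero * n ∈ _
  rw [nU4_eq, hn]
  have : tor (-a⁻¹) 1 * nA F * (nA F * tor a b) = tor (-a⁻¹) 1 * (nA F * nA F) * tor a b := by group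
  rw [this, nA_sq, tor_mul, tor_mul]
  exact tor_mem_H _ _

/-- involutions of type `b` -/
theorem good_b (hq : Odd (Fintype.card F)) {a b : Fˣ}
    (h2 : nB F * tor a b * (nB F * tor a b) = 1) : GoodH (nB F * tor a b) := by
  have Δ := bnG (F := F)
  -- `a = -1`
  have e1 : nB F * tor a b * (nB F * tor a b) = tor (a * 1 * a) (a ^ 3 * b⁻¹ * -1 * b) := by
    calc nB F * tor a b * (nB F * tor a b)
        = (nB F * tor a b * (nB F)⁻¹) * (nB F * nB F) * tor a b := by group
      _ = _ := by rw [nB_conj_tor, nB_sq, tor_mul, tor_mul]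
  rw [e1] at h2
  obtain ⟨h3, h4⟩ := tor_eq_one h2
  have ha : (a : F) = -1 := by
    have e3 := congrArg Units.val h3
    have e4 := congrArg Units.val h4
    simp only [Units.val_mul, Units.val_neg, Units.val_one, Units.val_inv_eq_inv_val,
      Units.val_pow_eq_pow_val] at e3 e4
    have hb := b.ne_zero
    field_simp at e4
    -- `a² = 1`, `-a³ = 1`
    have : (a : F) * (a : F) = 1 := by linear_combination e3
    linear_combination (-(a : F)) * this - e4
  set n := nB F * tor a b with hn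
  have hnN : n ∈ chevG2.monomialSubgroup F :=
    Subgroup.mul_mem _ nB_mem_N (Δ.diag_le_monomial (tor_mem_H a b))
  have hnn : n * n = 1 := by rw [hn, e1]; exact h2
  have hconj : ∀ u, n * X 6 u * n⁻¹ = X (11 - 6) ((b : F) * b * u) := by
    intro u
    calc n * X 6 u * n⁻¹ = nB F * (tor a b * X 6 u * (tor a b)⁻¹) * (nB F)⁻¹ := by rw [hn]; group
      _ = X 5 (((-1 : ℤ) : F) * (chi a b 6 * u)) := by
          rw [tor_conj_X a b (by norm_num), nB_conj_X (by norm_num), wR_eta_66.1, wR_eta_66.2]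
      _ = _ := by
          show X 5 _ = X 5 _
          congr 1
          rw [chi_6, ha]
          push_cast
          ring
  obtain ⟨-, g, hg, hge⟩ := lemmaR hq hnN hnn (by norm_num) (by norm_num) b.ne_zero hconj
  refine ⟨g, hg, ?_⟩
  rw [hge]
  change nU hB2 5 b.ne_zero * n ∈ _
  rw [nU5_eq, hn]
  have : tor 1 (-b⁻¹) * nB F * (nB F * tor a b) = tor 1 (-b⁻¹) * (nB F * nB F) * tor a b := by group
  rw [this, nB_sq, tor_mul, tor_mul]
  exact tor_mem_H _ _

end finite

end Cfsg.Agent.Helper6.G2Odd
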