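import Mathlib
import Cfsg.Agent.Helper6.G2Odd.Types

set_option autoImplicit false
set_option linter.unusedSectionVars false
set_option linter.unusedVariables false
set_option linter.unusedSimpArgs false

/-!
Involutions of `N` in `G₂(q)`, `q` odd: the remaining types.
-/

namespace Cfsg.Agent.Helper6.G2Odd

open Cfsg.Lie Cfsg.Agent.Helper6 Cfsg.Agent.Helper6.Ree Cfsg.Agent.Helper6.G2Two
open Cfsg.Agent.Helper2.St2F Cfsg.Agent.Helper2.ChevSL2

variable {F : Type*} [Field F]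

theorem nA_mem_group : nA F ∈ chevG2.group F := N_le_group nA_mem_N
theorem nB_mem_group : nB F ∈ chevG2.group F := N_le_group nB_mem_N

/-- conjugation by `n_a` shortens the word -/
theorem step_a (L' : List ℕ) (a b : Fˣ) :
    (nA F)⁻¹ * (nWr hB2 F (0 :: (L' ++ [0])) * tor a b) * (nA F)⁻¹⁻¹ =
      nWr hB2 F L' * tor (a⁻¹ * b * -1) (b * 1) := by
  have e : nWr hB2 F (0 :: (L' ++ [0])) = nA F * nWr hB2 F L' * nA F := by
    show nWr hB2 F (L' ++ [0]) * nU hB2 (chevG2.simple 0) (one_ne_zero (α := F)) = _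
    rw [nWr_append_singleton]
    rfl
  rw [e, ← tor_mul, ← nA_sq, ← nA_conj_tor]
  group

/-- conjugation by `n_b` shortens the word -/
theorem step_b (L' : List ℕ) (a b : Fˣ) :
    (nB F)⁻¹ * (nWr hB2 F (1 :: (L' ++ [1])) * tor a b) * (nB F)⁻¹⁻¹ =
      nWr hB2 F L' * tor (a * 1) (a ^ 3 * b⁻¹ * -1) := by
  have e : nWr hB2 F (1 :: (L' ++ [1])) = nB F * nWr hB2 F L' * nB F := by
    show nWr hB2 F (L' ++ [1]) * nU hB2 (chevG2.simple 1) (one_ne_zero (α := F)) = _
    rw [nWr_append_singleton]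
    rfl
  rw [e, ← tor_mul, ← nB_sq, ← nB_conj_tor]
  group

section finite

variable [Fintype F]

theorem good_aba (hq : Odd (Fintype.card F)) {a b : Fˣ}
    (h2 : nWr hB2 F [0, 1, 0] * tor a b * (nWr hB2 F [0, 1, 0] * tor a b) = 1) :
    GoodH (nWr hB2 F [0, 1, 0] * tor a b) := by
  have e := step_a (F := F) [1] a b
  refine GoodH.of_eq_conj (Subgroup.inv_mem _ nA_mem_group) e ?_
  rw [← nB_eq]
  apply good_b hq
  rw [nB_eq, ← e]
  exact conj_sq_one h2

theorem good_bab (hq : Odd (Fintype.card F)) {a b : Fˣ}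
    (h2 : nWr hB2 F [1, 0, 1] * tor a b * (nWr hB2 F [1, 0, 1] * tor a b) = 1) :
    GoodH (nWr hB2 F [1, 0, 1] * tor a b) := by
  have e := step_b (F := F) [0] a b
  refine GoodH.of_eq_conj (Subgroup.inv_mem _ nB_mem_group) e ?_
  rw [← nA_eq]
  apply good_a hq
  rw [nA_eq, ← e]
  exact conj_sq_one h2

theorem good_ababa (hq : Odd (Fintype.card F)) {a b : Fˣ}
    (h2 : nWr hB2 F [0, 1, 0, 1, 0] * tor a b * (nWr hB2 F [0, 1, 0, 1, 0] * tor a b) = 1) :
    GoodH (nWr hB2 F [0, 1, 0, 1, 0] * tor a b) := by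
  have e := step_a (F := F) [1, 0, 1] a b
  refine GoodH.of_eq_conj (Subgroup.inv_mem _ nA_mem_group) e ?_
  apply good_bab hq
  rw [← e]
  exact conj_sq_one h2

theorem good_babab (hq : Odd (Fintype.card F)) {a b : Fˣ}
    (h2 : nWr hB2 F [1, 0, 1, 0, 1] * tor a b * (nWr hB2 F [1, 0, 1, 0, 1] * tor a b) = 1) :
    GoodH (nWr hB2 F [1, 0, 1, 0, 1] * tor a b) := by
  have e := step_b (F := F) [0, 1, 0] a b
  refine GoodH.of_eq_conj (Subgroup.inv_mem _ nB_mem_group) e ?_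
  apply good_aba hq
  rw [← e]
  exact conj_sq_one h2

theorem rot_ne : wFr chevG2 [0, 1] (wFr chevG2 [0, 1] 7) ≠ 7 ∧
    wFr chevG2 [1, 0] (wFr chevG2 [1, 0] 7) ≠ 7 ∧
    wFr chevG2 [0, 1, 0, 1] (wFr chevG2 [0, 1, 0, 1] 7) ≠ 7 ∧
    wFr chevG2 [1, 0, 1, 0] (wFr chevG2 [1, 0, 1, 0] 7) ≠ 7 := by decide

/-- involutions of `N` not of type `w₀` -/
theorem good_of_word (hq : Odd (Fintype.card F)) {L : List ℕ} (hL : L ∈ words12)
    (hL0 : L ≠ [0, 1, 0, 1, 0, 1]) {a b : Fˣ}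
    (h2 : nWr hB2 F L * tor a b * (nWr hB2 F L * tor a b) = 1) : GoodH (nWr hB2 F L * tor a b) := by
  have hLlt := words12_lt L hL
  have hp := perm_invol hLlt h2 (s := 7) (by norm_num)
  simp only [words12, List.mem_cons, List.not_mem_nil, or_false] at hL
  rcases hL with rfl | rfl | rfl | rfl | rfl | rfl | rfl | rfl | rfl | rfl | rfl | rfl
  · refine ⟨1, Subgroup.one_mem _, ?_⟩
    simp only [nWr, one_mul, mul_one, inv_one]
    exact tor_mem_H a b
  · rw [← nA_eq] at h2 ⊢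
    exact good_a hq h2
  · rw [← nB_eq] at h2 ⊢
    exact good_b hq h2
  · exact absurd hp rot_ne.1
  · exact absurd hp rot_ne.2.1
  · exact good_aba hq h2
  · exact good_bab hq h2
  · exact absurd hp rot_ne.2.2.1
  · exact absurd hp rot_ne.2.2.2
  · exact good_ababa hq h2
  · exact good_babab hq h2
  · exact absurd rfl hL0

end finite

end Cfsg.Agent.Helper6.G2Odd
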