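import Mathlib
import Cfsg.Agent.Helper6.G2Odd.Types2

set_option autoImplicit false
set_option linter.unusedSectionVars false
set_option linter.unusedVariables false
set_option linter.unusedSimpArgs false

/-!
Involutions of `N` in `G₂(q)`, `q` odd: the type `w₀`, and the conclusion: every involution of the
group is conjugate to an element of `H`.
-/

namespace Cfsg.Agent.Helper6.G2Odd

open Cfsg.Lie Cfsg.Agent.Helper6 Cfsg.Agent.Helper6.Ree Cfsg.Agent.Helper6.G2Two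
open Cfsg.Agent.Helper2.St2F Cfsg.Agent.Helper2.ChevSL2

variable {F : Type*} [Field F]

theorem w0_vals : wFr chevG2 [0, 1, 0, 1, 0, 1] 6 = 5 ∧ wFr chevG2 [0, 1, 0, 1, 0, 1] 7 = 4 ∧
    sgnWr [0, 1, 0, 1, 0, 1] 6 = -1 ∧ sgnWr [0, 1, 0, 1, 0, 1] 7 = -1 := by decide

theorem w0_key : wFr chevG2 ([0, 1, 0, 1, 0, 1] ++ [0]) 7 = wFr chevG2 [1, 0, 1, 0, 1] 7 ∧
    wFr chevG2 ([0, 1, 0, 1, 0, 1] ++ [0]) 6 = wFr chevG2 [1, 0, 1, 0, 1] 6 := by decide

section finite

variable [Fintype F]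

/-- a binary quadratic form over a finite field of odd order represents every element -/
theorem exists_pq (hq : Odd (Fintype.card F)) {κ : F} (hκ : κ ≠ 0) (μ : F) :
    ∃ p q : F, p * p - κ * q * q = μ := by
  classical
  have hf : ((Polynomial.X : Polynomial F) ^ 2 - Polynomial.C μ).degree = 2 :=
    Polynomial.degree_X_pow_sub_C (by norm_num) μ
  have hg : (Polynomial.C (-κ) * (Polynomial.X : Polynomial F) ^ 2).degree = 2 :=
    Polynomial.degree_C_mul_X_pow 2 (neg_ne_zero.2 hκ)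
  obtain ⟨p, q, h⟩ := FiniteField.exists_root_sum_quadratic hf hg (Nat.odd_iff.1 hq)
  refine ⟨p, q, ?_⟩
  simp only [Polynomial.eval_sub, Polynomial.eval_pow, Polynomial.eval_X, Polynomial.eval_C,
    Polynomial.eval_mul] at h
  linear_combination h

/-- involutions of type `w₀` -/
theorem good_w0 (hq : Odd (Fintype.card F)) {a b : Fˣ}
    (h2 : nWr hB2 F [0, 1, 0, 1, 0, 1] * tor a b * (nWr hB2 F [0, 1, 0, 1, 0, 1] * tor a b) = 1) :
    GoodH (nWr hB2 F [0, 1, 0, 1, 0, 1] * tor a b) := by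
  have Δ := bnG (F := F)
  have hL : ∀ j ∈ [0, 1, 0, 1, 0, 1], j < 2 := by decide
  set n := nWr hB2 F [0, 1, 0, 1, 0, 1] * tor a b with hn
  have hnN : n ∈ chevG2.monomialSubgroup F :=
    Subgroup.mul_mem _ (Δ.nWr_mem_monomial hL) (Δ.diag_le_monomial (tor_mem_H a b))
  have hnG : n ∈ chevG2.group F := N_le_group hnN
  have hconj6 : ∀ u, n * X 6 u * n⁻¹ = X (11 - 6) (-chi a b 6 * u) := by
    intro u
    rw [hn, word_conj hL a b (by norm_num), w0_vals.1, w0_vals.2.2.1]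
    show X 5 _ = X 5 _
    congr 1
    push_cast
    ring
  have hconj7 : ∀ u, n * X 7 u * n⁻¹ = X 4 (-chi a b 7 * u) := by
    intro u
    rw [hn, word_conj hL a b (by norm_num), w0_vals.2.1, w0_vals.2.2.2]
    congr 1
    push_cast
    ring
  have hκ6 : -chi a b 6 ≠ 0 := neg_ne_zero.2 (chi_ne_zero a b 6)
  -- the torus move
  set μ : Fˣ := -(b * (a ^ 2)⁻¹) with hμ
  obtain ⟨p, q, hpq⟩ := exists_pq hq hκ6 (μ : F)
  obtain ⟨g, hg, hge⟩ := lemmaS h2 (by norm_num) hκ6 hconj6 μ.ne_zero hpq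
  rw [hU_tor6] at hge
  set n' := tor 1 μ * n with hn'
  have hn'N : n' ∈ chevG2.monomialSubgroup F :=
    Subgroup.mul_mem _ (Δ.diag_le_monomial (tor_mem_H 1 μ)) hnN
  have hn'n' : n' * n' = 1 := by rw [← hge]; exact conj_sq_one h2
  refine GoodH.of_eq_conj hg hge ?_
  have hconj7' : ∀ u, n' * X 7 u * n'⁻¹ = X (11 - 7) ((1 : F) * 1 * u) := by
    intro u
    calc n' * X 7 u * n'⁻¹ = tor 1 μ * (n * X 7 u * n⁻¹) * (tor 1 μ)⁻¹ := by rw [hn']; group
      _ = X 4 (chi 1 μ 4 * (-chi a b 7 * u)) := by rw [hconj7, tor_conj_X 1 μ (by norm_num)]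
      _ = _ := by
          show X 4 _ = X 4 _
          congr 1
          have e4 : chi (1 : Fˣ) μ 4 = (chi 1 μ 7)⁻¹ := chi_neg 1 μ (r := 7) (by norm_num)
          rw [e4, chi_7, chi_7, hμ]
          have ha := a.ne_zero
          have hb := b.ne_zero
          simp only [Units.val_neg, Units.val_mul, Units.val_inv_eq_inv_val, Units.val_pow_eq_pow_val,
            Units.val_one]
          try field_simp
  obtain ⟨hmm, g', hg', hge'⟩ := lemmaR hq hn'N hn'n' (by norm_num) (by norm_num)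
    (one_ne_zero (α := F)) hconj7'
  refine GoodH.of_eq_conj hg' hge' ?_
  -- the element `m = n_{-a}(1) n'` has type `babab`
  have e4 : nU hB2 (11 - 7) (one_ne_zero (α := F)) = tor (-1⁻¹) 1 * nA F := by
    rw [← nU4_eq (1 : Fˣ)]
  have hmm' := hmm
  rw [e4] at hmm' ⊢
  obtain ⟨d, hd, hde⟩ := word_eq_of_key (F := F) (L := [0, 1, 0, 1, 0, 1] ++ [0])
    (L' := [1, 0, 1, 0, 1]) (by decide) (by decide) w0_key.1 w0_key.2
  have e5 : nA F * nWr hB2 F [0, 1, 0, 1, 0, 1] = nWr hB2 F [1, 0, 1, 0, 1] * d := by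
    rw [← hde, nWr_append_singleton]
    rfl
  have hW : nWr hB2 F [1, 0, 1, 0, 1] ∈ chevG2.monomialSubgroup F :=
    Δ.nWr_mem_monomial (by decide)
  -- collect the torus parts on the right
  set T₁ : GL chevG2.Idx F := tor (-1⁻¹) 1 * (nA F * tor 1 μ * (nA F)⁻¹) with hT₁
  have hT₁H : T₁ ∈ chevG2.diagonalSubgroup F := by
    rw [hT₁, nA_conj_tor]
    exact Subgroup.mul_mem _ (tor_mem_H _ _) (tor_mem_H _ _)
  have e6 : tor (-1⁻¹) 1 * nA F * n' =
      nWr hB2 F [1, 0, 1, 0, 1] *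
        (((nWr hB2 F [1, 0, 1, 0, 1])⁻¹ * T₁ * nWr hB2 F [1, 0, 1, 0, 1]) * d * tor a b) := by
    calc tor (-1⁻¹) 1 * nA F * n'
        = T₁ * (nA F * nWr hB2 F [0, 1, 0, 1, 0, 1]) * tor a b := by rw [hn', hn, hT₁]; group
      _ = _ := by rw [e5]; group
  have hH : ((nWr hB2 F [1, 0, 1, 0, 1])⁻¹ * T₁ * nWr hB2 F [1, 0, 1, 0, 1]) * d * tor a b ∈
      chevG2.diagonalSubgroup F :=
    Subgroup.mul_mem _ (Subgroup.mul_mem _ (Δ.conj_diag_mem' hW hT₁H) hd) (tor_mem_H a b)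
  obtain ⟨a', b', hab⟩ := exists_tor hH
  rw [e6, hab] at hmm' ⊢
  exact good_babab hq hmm'

/-- every involution of `N` is conjugate to an element of `H` -/
theorem good_of_mem_N (hq : Odd (Fintype.card F)) {n : GL chevG2.Idx F}
    (hn : n ∈ chevG2.monomialSubgroup F) (h2 : n * n = 1) : GoodH n := by
  obtain ⟨L, hL, h, hh, rfl⟩ := monomial_cases hn
  obtain ⟨a, b, rfl⟩ := exists_tor hh
  by_cases hL0 : L = [0, 1, 0, 1, 0, 1]
  · subst hL0
    exact good_w0 hq h2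
  · exact good_of_word hq hL hL0 h2

/-- every involution of the group is conjugate to an involution of `H` -/
theorem invol_to_H (hq : Odd (Fintype.card F)) {t : GL chevG2.Idx F} (ht : t ∈ chevG2.group F)
    (h2 : t * t = 1) :
    ∃ g ∈ chevG2.group F, g * t * g⁻¹ ∈ chevG2.diagonalSubgroup F := by
  obtain ⟨g, hg, n, hn, hnn, e⟩ := invol_to_N hq ht h2
  exact GoodH.of_eq_conj hg e (good_of_mem_N hq hn hnn)

end finite

end Cfsg.Agent.Helper6.G2Odd
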