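import Mathlib
import Cfsg.Agent.Helper6.G2Odd.Types3

set_option autoImplicit false
set_option linter.unusedSectionVars false
set_option linter.unusedVariables false
set_option linter.unusedSimpArgs false

/-!
`G₂(q)`, `q` odd, has a single class of involutions: every involution is conjugate to
`z₀ = h_a(-1) = tor (-1) 1`.
-/

namespace Cfsg.Agent.Helper6.G2Odd

open Cfsg.Lie Cfsg.Agent.Helper6 Cfsg.Agent.Helper6.Ree Cfsg.Agent.Helper6.G2Two
open Cfsg.Agent.Helper2.St2F Cfsg.Agent.Helper2.ChevSL2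

variable {F : Type*} [Field F]

/-- the standard involution `h_a(-1)` -/
noncomputable def z0 (F : Type*) [Field F] : GL chevG2.Idx F := tor (-1) 1

theorem z0_mem_H : z0 F ∈ chevG2.diagonalSubgroup F := tor_mem_H _ _

theorem H_le_group : chevG2.diagonalSubgroup F ≤ chevG2.group F := fun h hh =>
  N_le_group ((bnG (F := F)).diag_le_monomial hh)

theorem z0_mem_group : z0 F ∈ chevG2.group F := H_le_group z0_mem_H

theorem z0_sq : z0 F * z0 F = 1 := by
  rw [z0, tor_mul]
  simp [tor_one]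

theorem neg_one_ne_one_units (h2 : (2 : F) ≠ 0) : (-1 : Fˣ) ≠ 1 := by
  intro h
  have h' : ((-1 : Fˣ) : F) = ((1 : Fˣ) : F) := congrArg Units.val h
  simp only [Units.val_neg, Units.val_one] at h'
  apply h2
  linear_combination -h'

theorem z0_ne_one (h2 : (2 : F) ≠ 0) : z0 F ≠ 1 := fun h =>
  neg_one_ne_one_units h2 (tor_eq_one h).1

theorem unit_sq_one {a : Fˣ} (h : a * a = 1) : a = 1 ∨ a = -1 := by
  have h' : (a : F) * a = 1 := by
    have := congrArg Units.val h
    simpa using this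
  rcases mul_self_eq_one_iff.1 h' with h | h
  · left; ext; exact h
  · right; ext; simp [h]

/-- every involution of `H` is conjugate to `z₀` -/
theorem invol_H_conj {h : GL chevG2.Idx F} (hh : h ∈ chevG2.diagonalSubgroup F)
    (h2 : h * h = 1) (h1 : h ≠ 1) : ∃ g ∈ chevG2.group F, g * h * g⁻¹ = z0 F := by
  obtain ⟨a, b, rfl⟩ := exists_tor hh
  rw [tor_mul] at h2
  obtain ⟨ha, hb⟩ := tor_eq_one h2
  rcases unit_sq_one ha with rfl | rfl <;> rcases unit_sq_one hb with rfl | rfl
  · exact absurd tor_one h1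
  · refine ⟨nB F * nA F, Subgroup.mul_mem _ nB_mem_group nA_mem_group, ?_⟩
    calc nB F * nA F * tor 1 (-1) * (nB F * nA F)⁻¹
        = nB F * (nA F * tor 1 (-1) * (nA F)⁻¹) * (nB F)⁻¹ := by group
      _ = z0 F := by
          rw [nA_conj_tor, nB_conj_tor, z0]
          have e3 : (-1 : Fˣ) ^ 3 = -1 := Odd.neg_one_pow (by decide)
          congr 1 <;> simp [e3]
  · exact ⟨1, Subgroup.one_mem _, by simp [z0]⟩
  · refine ⟨nB F, nB_mem_group, ?_⟩
    rw [nB_conj_tor, z0]
    have e3 : (-1 : Fˣ) ^ 3 = -1 := Odd.neg_one_pow (by decide)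
    congr 1
    simp [e3]

section finite

variable [Fintype F]

theorem two_ne_zero_of_odd (hq : Odd (Fintype.card F)) : (2 : F) ≠ 0 := by
  intro h
  have h2 : ringChar F = 2 := by
    have hd : ringChar F ∣ 2 := by
      apply ringChar.dvd
      exact_mod_cast h
    rcases (Nat.dvd_prime Nat.prime_two).1 hd with h1 | h2
    · exact absurd h1 (CharP.ringChar_ne_one)
    · exact h2
  have h3 := FiniteField.even_card_iff_char_two.1 h2
  have h4 := Nat.odd_iff.1 hq
  omega

/-- every involution of the group is conjugate to `z₀` -/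
theorem invol_conj_z0 (hq : Odd (Fintype.card F)) {t : GL chevG2.Idx F} (ht : t ∈ chevG2.group F)
    (h2 : t * t = 1) (h1 : t ≠ 1) : ∃ g ∈ chevG2.group F, g * t * g⁻¹ = z0 F := by
  obtain ⟨g, hg, hH⟩ := invol_to_H hq ht h2
  have h2' : g * t * g⁻¹ * (g * t * g⁻¹) = 1 := conj_sq_one h2
  have h1' : g * t * g⁻¹ ≠ 1 := by
    intro h
    apply h1
    calc t = g⁻¹ * (g * t * g⁻¹) * g := by group
      _ = 1 := by rw [h]; group
  obtain ⟨g', hg', e⟩ := invol_H_conj hH h2' h1'
  refine ⟨g' * g, Subgroup.mul_mem _ hg' hg, ?_⟩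
  rw [← e]
  group

end finite

end Cfsg.Agent.Helper6.G2Odd
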