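import Mathlib
import Cfsg.Agent.Helper6.G2Odd.Invol
import Cfsg.Agent.Helper6.Ree.G2Inv1

set_option autoImplicit false
set_option linter.unusedSectionVars false
set_option linter.unusedVariables false
set_option linter.unusedSimpArgs false

/-!
The two commuting subgroups `SL₂(F)` of `G₂(F)` attached to the orthogonal roots `a` and `3a+2b`.
-/

namespace Cfsg.Agent.Helper6.G2Odd

open Cfsg.Lie Cfsg.Agent.Helper6 Cfsg.Agent.Helper6.Ree Cfsg.Agent.Helper6.G2Two
open Cfsg.Agent.Helper2.St2F Cfsg.Agent.Helper2.ChevSL2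

variable {F : Type*} [Field F]

local notation "SL2" => Matrix.SpecialLinearGroup (Fin 2)

/-- the homomorphism attached to the long root `3a+2b` -/
noncomputable def phiL (F : Type*) [Field F] : SL2 F →* GL chevG2.Idx F :=
  Classical.choose (phi_exists (F := F) (r := 11) (by norm_num))

theorem phiL_upper (t : F) : phiL F (upperSL t) = X 11 t :=
  (Classical.choose_spec (phi_exists (F := F) (r := 11) (by norm_num))).1 t

theorem phiL_lower (t : F) : phiL F (lowerSL t) = X 0 t :=
  (Classical.choose_spec (phi_exists (F := F) (r := 11) (by norm_num))).2 t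

/-- the homomorphism attached to the short root `a` -/
noncomputable def phiS (F : Type*) [Field F] : SL2 F →* GL chevG2.Idx F :=
  Classical.choose (phi_exists (F := F) (r := 7) (by norm_num))

theorem phiS_upper (t : F) : phiS F (upperSL t) = X 7 t :=
  (Classical.choose_spec (phi_exists (F := F) (r := 7) (by norm_num))).1 t

theorem phiS_lower (t : F) : phiS F (lowerSL t) = X 4 t :=
  (Classical.choose_spec (phi_exists (F := F) (r := 7) (by norm_num))).2 t

theorem c_0_7 (t u : F) : Commute (X 0 t) (X 7 u) :=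
  X_comm (by norm_num) (by norm_num) (by norm_num) (by norm_num) (by decide) t u
theorem c_0_4 (t u : F) : Commute (X 0 t) (X 4 u) :=
  X_comm (by norm_num) (by norm_num) (by norm_num) (by norm_num) (by decide) t u
theorem c_11_7 (t u : F) : Commute (X 11 t) (X 7 u) :=
  X_comm (by norm_num) (by norm_num) (by norm_num) (by norm_num) (by decide) t u
theorem c_11_4 (t u : F) : Commute (X 11 t) (X 4 u) :=
  X_comm (by norm_num) (by norm_num) (by norm_num) (by norm_num) (by decide) t u

/-- the two subgroups commute -/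
theorem phi_commute (x y : SL2 F) : Commute (phiL F x) (phiS F y) := by
  apply sl2_commute
  · intro t u; rw [phiL_upper, phiS_upper]; exact c_11_7 t u
  · intro t u; rw [phiL_upper, phiS_lower]; exact c_11_4 t u
  · intro t u; rw [phiL_lower, phiS_upper]; exact c_0_7 t u
  · intro t u; rw [phiL_lower, phiS_lower]; exact c_0_4 t u

/-- the diagonal matrices -/
def dSL (s : Fˣ) : SL2 F := mk2 (s : F) 0 0 ((s : F)⁻¹) (by
  rw [mul_inv_cancel₀ s.ne_zero]; ring)

theorem dSL_eq (s : Fˣ) :
    dSL s = wSL (s : F) s.ne_zero * wSL (-1) (neg_ne_zero.2 (one_ne_zero (α := F))) := by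
  apply sl2_ext <;> simp only [dSL, wSL, sl2_mul_apply, mk2_00, mk2_01, mk2_10, mk2_11] <;>
    field_simp <;> ring

theorem phi_dSL {r : ℕ} (hr : r < 12) {φ : SL2 F →* GL chevG2.Idx F}
    (h1 : ∀ t, φ (upperSL t) = X r t) (h2 : ∀ t, φ (lowerSL t) = X (11 - r) t) (s : Fˣ) :
    φ (dSL s) = tor (s ^ corootC chevG2 r 0) (s ^ corootC chevG2 r 1) := by
  rw [dSL_eq, map_mul, phi_wSL hr h1 h2, phi_wSL hr h1 h2, hU_tor hr s]

theorem corootC_11 : corootC chevG2 11 0 = 1 ∧ corootC chevG2 11 1 = 2 := by decide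

theorem phiL_dSL (s : Fˣ) : phiL F (dSL s) = tor s (s ^ 2) := by
  rw [phi_dSL (by norm_num) phiL_upper phiL_lower, corootC_11.1, corootC_11.2, zpow_one]
  rfl

theorem phiS_dSL (s : Fˣ) : phiS F (dSL s) = tor s 1 := by
  rw [phi_dSL (by norm_num) phiS_upper phiS_lower, corootC_7.1, corootC_7.2, zpow_one, zpow_zero]

/-- the decomposition of an upper triangular matrix -/
theorem sl2_small' (g : SL2 F) (h : g.1 1 0 = 0) : ∃ (x : F) (s : Fˣ), g = upperSL x * dSL s := by
  have hd := sl2_det g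
  rw [h, mul_zero, sub_zero] at hd
  have h0 : g.1 0 0 ≠ 0 := by
    intro h0
    rw [h0, zero_mul] at hd
    exact zero_ne_one hd
  have h11 : g.1 1 1 = (g.1 0 0)⁻¹ := eq_inv_of_mul_eq_one_right hd
  refine ⟨g.1 0 1 * g.1 0 0, Units.mk0 _ h0, ?_⟩
  apply sl2_ext <;> simp only [dSL, sl2_mul_apply, mk2_00, mk2_01, mk2_10, mk2_11, upper_00,
    upper_01, upper_10, upper_11, Units.val_mk0, h, h11] <;> field_simp <;> ring

/-- the decomposition of a matrix in the big cell -/
theorem sl2_big' (g : SL2 F) (h : g.1 1 0 ≠ 0) :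
    ∃ (x y t : F) (ht : t ≠ 0), g = upperSL x * wSL t ht * upperSL y := by
  have hd := sl2_det g
  have ht : -(g.1 1 0)⁻¹ ≠ 0 := neg_ne_zero.2 (inv_ne_zero h)
  refine ⟨g.1 0 0 / g.1 1 0, g.1 1 1 / g.1 1 0, -(g.1 1 0)⁻¹, ht, ?_⟩
  have h01 : g.1 0 1 = (g.1 0 0 * g.1 1 1 - 1) / g.1 1 0 := by
    field_simp
    linear_combination (-1 : F) * hd
  apply sl2_ext <;> simp only [wSL, sl2_mul_apply, mk2_00, mk2_01, mk2_10, mk2_11, upper_00,
    upper_01, upper_10, upper_11] <;> (try rw [h01]) <;> field_simp <;> ring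

theorem wSL_upper (t : F) (ht : t ≠ 0) (u : F) :
    wSL t ht * upperSL u = lowerSL (-(u / t ^ 2)) * wSL t ht := by
  apply sl2_ext <;> simp only [wSL, sl2_mul_apply, mk2_00, mk2_01, mk2_10, mk2_11, upper_00,
    upper_01, upper_10, upper_11, lower_00, lower_01, lower_10, lower_11] <;> field_simp <;> ring

theorem wSL_lower (t : F) (ht : t ≠ 0) (u : F) :
    wSL t ht * lowerSL u = upperSL (-(u * t ^ 2)) * wSL t ht := by
  apply sl2_ext <;> simp only [wSL, sl2_mul_apply, mk2_00, mk2_01, mk2_10, mk2_11, upper_00,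
    upper_01, upper_10, upper_11, lower_00, lower_01, lower_10, lower_11] <;> field_simp <;> ring

/-- injectivity of the root homomorphisms -/
theorem phi_injective {r : ℕ} (h6 : 6 ≤ r) (hr : r < 12) {φ : SL2 F →* GL chevG2.Idx F}
    (h1 : ∀ t, φ (upperSL t) = X r t) (h2 : ∀ t, φ (lowerSL t) = X (11 - r) t)
    (hc : ∀ s : Fˣ, (tor (s ^ corootC chevG2 r 0) (s ^ corootC chevG2 r 1) : GL chevG2.Idx F) = 1 →
      s = 1) : Function.Injective φ := by
  have Δ := bnG (F := F)
  rw [injective_iff_map_eq_one]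
  intro g hg
  by_cases h : g.1 1 0 = 0
  · obtain ⟨x, s, rfl⟩ := sl2_small' g h
    rw [map_mul, h1, phi_dSL hr h1 h2] at hg
    have hmem : X r x ∈ chevG2.posUnipotent F ⊓ chevG2.diagonalSubgroup F := by
      refine ⟨G2Two.X_mem_U h6 hr x, ?_⟩
      have : X r x = (tor (s ^ corootC chevG2 r 0) (s ^ corootC chevG2 r 1))⁻¹ :=
        eq_inv_of_mul_eq_one_left hg
      rw [this]
      exact Subgroup.inv_mem _ (tor_mem_H _ _)
    rw [posUnipotent_inf_diagonal Δ.hB Δ.hH Δ.good, Subgroup.mem_bot] at hmem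
    have hx : x = 0 := by
      by_contra hx
      exact X_ne_one hr hx hmem
    rw [hmem, one_mul] at hg
    have hs := hc s hg
    subst hx
    subst hs
    apply sl2_ext <;> simp only [dSL, sl2_mul_apply, mk2_00, mk2_01, mk2_10, mk2_11, upper_00,
      upper_01, upper_10, upper_11, one_00, one_01, one_10, one_11, Units.val_one] <;> simp
  · exfalso
    obtain ⟨x, y, t, ht, rfl⟩ := sl2_big' g h
    rw [map_mul, map_mul, h1, h1, phi_wSL hr h1 h2] at hg
    have hn : nU hB2 r ht = X r (-x) * X r (-y) := by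
      have : nU hB2 r ht = (X r x)⁻¹ * (X r x * nU hB2 r ht * X r y) * (X r y)⁻¹ := by group
      rw [this, hg, X_inv, X_inv]
      group
    have hnU : nU hB2 r ht ∈ chevG2.posUnipotent F := by
      rw [hn]
      exact Subgroup.mul_mem _ (G2Two.X_mem_U h6 hr _) (G2Two.X_mem_U h6 hr _)
    have hconj : nU hB2 r ht * X r 1 * (nU hB2 r ht)⁻¹ = X (11 - r) (-(1 / t ^ 2)) := by
      rw [← phi_wSL hr h1 h2 t ht, ← h1, ← map_inv, ← map_mul, ← map_mul, ← h2]
      congr 1
      rw [wSL_upper]
      group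
    have hU : X (11 - r) (-(1 / t ^ 2)) ∈ chevG2.posUnipotent F := by
      rw [← hconj]
      exact Subgroup.mul_mem _ (Subgroup.mul_mem _ hnU (G2Two.X_mem_U h6 hr _))
        (Subgroup.inv_mem _ hnU)
    have hV : X (11 - r) (-(1 / t ^ 2)) ∈ chevG2.negUnipotent F := ReeCtx.X_mem_V (by omega) _
    have h1' := Δ.eq_one_of_mem_U_of_mem_V hU hV
    have hne : -(1 / t ^ 2) ≠ 0 := neg_ne_zero.2 (one_div_ne_zero (pow_ne_zero 2 ht))
    exact X_ne_one (by omega) hne h1'

theorem phiL_injective : Function.Injective (phiL F) := by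
  apply phi_injective (r := 11) (by norm_num) (by norm_num) phiL_upper phiL_lower
  intro s hs
  rw [corootC_11.1, zpow_one] at hs
  exact (tor_eq_one hs).1

theorem phiS_injective : Function.Injective (phiS F) := by
  apply phi_injective (r := 7) (by norm_num) (by norm_num) phiS_upper phiS_lower
  intro s hs
  rw [corootC_7.1, zpow_one] at hs
  exact (tor_eq_one hs).1

end Cfsg.Agent.Helper6.G2Odd
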