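import Mathlib
import Cfsg.Agent.Helper6.G2Odd.Cent1
import Cfsg.Agent.Helper2.SL2Sylow

set_option autoImplicit false
set_option linter.unusedSectionVars false
set_option linter.unusedVariables false
set_option linter.unusedSimpArgs false

/-!
The central product `SL₂(F) ∘ SL₂(F)` inside the centralizer of the involution `z₀` of `G₂(F)`.
-/

namespace Cfsg.Agent.Helper6.G2Odd

open Cfsg.Lie Cfsg.Agent.Helper6 Cfsg.Agent.Helper6.Ree Cfsg.Agent.Helper6.G2Two
open Cfsg.Agent.Helper2.St2F Cfsg.Agent.Helper2.ChevSL2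

variable {F : Type*} [Field F]

local notation "SL2" => Matrix.SpecialLinearGroup (Fin 2)

/-- a matrix commuting with the two unitriangular matrices is `±1` -/
theorem sl2_central {A : SL2 F} (h1 : A * upperSL 1 = upperSL 1 * A)
    (h2 : A * lowerSL 1 = lowerSL 1 * A) : A = 1 ∨ A = dSL (-1) := by
  have e1 := congrArg (fun g : SL2 F => g.1 0 0) h1
  have e2 := congrArg (fun g : SL2 F => g.1 0 1) h1
  have e3 := congrArg (fun g : SL2 F => g.1 0 0) h2
  simp only [sl2_mul_apply, upper_00, upper_01, upper_10, upper_11, lower_00, lower_01, lower_10,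
    lower_11] at e1 e2 e3
  have h10 : A.1 1 0 = 0 := by linear_combination -e1
  have h01 : A.1 0 1 = 0 := by linear_combination e3
  have h11 : A.1 1 1 = A.1 0 0 := by linear_combination -e2
  have hd := sl2_det A
  rw [h10, h01, h11, mul_zero, sub_zero] at hd
  rcases mul_self_eq_one_iff.1 hd with h | h
  · left
    apply sl2_ext <;> simp only [one_00, one_01, one_10, one_11, h10, h01, h11, h]
  · right
    apply sl2_ext <;> simp only [dSL, mk2_00, mk2_01, mk2_10, mk2_11, h10, h01, h11, h,
      Units.val_neg, Units.val_one] <;> norm_num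

theorem phiL_neg_one : phiL F (dSL (-1)) = z0 F := by
  rw [phiL_dSL, z0]
  congr 1
  norm_num

theorem phiS_neg_one : phiS F (dSL (-1)) = z0 F := by
  rw [phiS_dSL, z0]

/-- an element of both subgroups is `1` or `z₀` -/
theorem phiL_eq_phiS {A B : SL2 F} (h : phiL F A = phiS F B) : A = 1 ∨ A = dSL (-1) := by
  apply sl2_central
  · apply phiL_injective
    rw [map_mul, map_mul, h]
    exact ((phi_commute (upperSL 1) B).eq).symm
  · apply phiL_injective
    rw [map_mul, map_mul, h]
    exact ((phi_commute (lowerSL 1) B).eq).symm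

theorem phiS_eq_phiL {A B : SL2 F} (h : phiL F A = phiS F B) : B = 1 ∨ B = dSL (-1) := by
  apply sl2_central
  · apply phiS_injective
    rw [map_mul, map_mul, ← h]
    exact (phi_commute A (upperSL 1)).eq
  · apply phiS_injective
    rw [map_mul, map_mul, ← h]
    exact (phi_commute A (lowerSL 1)).eq

theorem range_inf_range {x : GL chevG2.Idx F} (h1 : x ∈ (phiL F).range) (h2 : x ∈ (phiS F).range) :
    x = 1 ∨ x = z0 F := by
  obtain ⟨A, rfl⟩ := h1
  obtain ⟨B, hB⟩ := h2
  rcases phiL_eq_phiS hB.symm with h | h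
  · left; rw [h, map_one]
  · right; rw [h, phiL_neg_one]

theorem z0_mem_rangeL : z0 F ∈ (phiL F).range := ⟨dSL (-1), phiL_neg_one⟩
theorem z0_mem_rangeS : z0 F ∈ (phiS F).range := ⟨dSL (-1), phiS_neg_one⟩

theorem phiL_mem_group (A : SL2 F) : phiL F A ∈ chevG2.group F :=
  sl2_range_le _ _ (fun t => by rw [phiL_upper]; exact X_mem_group (by norm_num) t)
    (fun t => by rw [phiL_lower]; exact X_mem_group (by norm_num) t) A

theorem phiS_mem_group (A : SL2 F) : phiS F A ∈ chevG2.group F :=
  sl2_range_le _ _ (fun t => by rw [phiS_upper]; exact X_mem_group (by norm_num) t)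
    (fun t => by rw [phiS_lower]; exact X_mem_group (by norm_num) t) A

theorem phiL_comm_z0 (A : SL2 F) : Commute (phiL F A) (z0 F) := by
  rw [← phiS_neg_one]; exact phi_commute A _

theorem phiS_comm_z0 (A : SL2 F) : Commute (phiS F A) (z0 F) := by
  rw [← phiL_neg_one]; exact (phi_commute _ A).symm

/-- the homomorphism from `SL₂ × SL₂` -/
noncomputable def psi (F : Type*) [Field F] : SL2 F × SL2 F →* GL chevG2.Idx F :=
  MonoidHom.noncommCoprod (phiL F) (phiS F) phi_commute

theorem psi_apply (A B : SL2 F) : psi F (A, B) = phiL F A * phiS F B := rfl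

theorem psi_range : (psi F).range = (phiL F).range ⊔ (phiS F).range :=
  MonoidHom.noncommCoprod_range _ _ _

theorem psi_mem_group (p : SL2 F × SL2 F) : psi F p ∈ chevG2.group F :=
  Subgroup.mul_mem _ (phiL_mem_group _) (phiS_mem_group _)

theorem psi_comm_z0 (p : SL2 F × SL2 F) : Commute (psi F p) (z0 F) :=
  (phiL_comm_z0 _).mul_left (phiS_comm_z0 _)

theorem dSL_neg_one_sq : dSL (-1 : Fˣ) * dSL (-1) = 1 := by
  apply sl2_ext <;> simp only [dSL, sl2_mul_apply, mk2_00, mk2_01, mk2_10, mk2_11, one_00, one_01,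
    one_10, one_11, Units.val_neg, Units.val_one] <;> norm_num

theorem dSL_neg_one_ne (h2 : (2 : F) ≠ 0) : dSL (-1 : Fˣ) ≠ 1 := by
  intro h
  have := congrArg (phiL F) h
  rw [phiL_neg_one, map_one] at this
  exact z0_ne_one h2 this

theorem psi_ker (h2 : (2 : F) ≠ 0) :
    (psi F).ker = Subgroup.zpowers ((dSL (-1), dSL (-1)) : SL2 F × SL2 F) := by
  ext ⟨A, B⟩
  rw [MonoidHom.mem_ker, psi_apply]
  constructor
  · intro h
    have e : phiL F A = phiS F B⁻¹ := by
      rw [map_inv]; exact eq_inv_of_mul_eq_one_left h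
    rcases phiL_eq_phiS e with hA | hA <;> rcases phiS_eq_phiL e with hB | hB
    · rw [hA, inv_eq_one.1 hB]; exact Subgroup.one_mem _
    · exfalso
      rw [hA, hB, map_one, phiS_neg_one] at e
      exact z0_ne_one h2 e.symm
    · exfalso
      rw [hA, hB, map_one, phiL_neg_one] at e
      exact z0_ne_one h2 e
    · have hB' : B = dSL (-1) := by
        have : B⁻¹ * dSL (-1) = 1 := by rw [hB]; exact dSL_neg_one_sq
        have h3 : B = (B⁻¹)⁻¹ := (inv_inv B).symm
        rw [h3, inv_eq_of_mul_eq_one_right this]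
      rw [hA, hB']
      exact Subgroup.mem_zpowers _
  · intro h
    obtain ⟨k, hk⟩ := Subgroup.mem_zpowers_iff.1 h
    have e0 : psi F ((dSL (-1), dSL (-1)) : SL2 F × SL2 F) = 1 := by
      rw [psi_apply, phiL_neg_one, phiS_neg_one, z0_sq]
    have : psi F (A, B) = 1 := by
      rw [← hk, map_zpow, e0, one_zpow]
    rw [← psi_apply]; exact this

theorem card_zpowers_two {G : Type*} [Group G] {c : G} (h1 : c ≠ 1) (h2 : c * c = 1) :
    Nat.card (Subgroup.zpowers c) = 2 := by
  rw [Nat.card_zpowers]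
  haveI : Fact (Nat.Prime 2) := ⟨Nat.prime_two⟩
  exact orderOf_eq_prime (by rw [pow_two]; exact h2) h1

section finite

variable [Fintype F]

/-- the order of the central product -/
theorem card_psi_range (h2 : (2 : F) ≠ 0) :
    2 * Nat.card (psi F).range = (Fintype.card F * (Fintype.card F ^ 2 - 1)) ^ 2 := by
  have h1 := Subgroup.card_mul_index (psi F).ker
  rw [Subgroup.index_ker, psi_ker h2, card_zpowers_two, Nat.card_prod,
    Cfsg.Agent.Helper2.SL2.card_SL2] at h1
  · rw [h1]; ring
  · intro h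
    exact dSL_neg_one_ne h2 (congrArg Prod.fst h)
  · show ((dSL (-1) * dSL (-1), dSL (-1) * dSL (-1)) : SL2 F × SL2 F) = 1
    rw [dSL_neg_one_sq]
    rfl

end finite

end Cfsg.Agent.Helper6.G2Odd
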