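import Mathlib
import Cfsg.Agent.Helper6.G2Odd.Cent2
import Cfsg.Agent.Helper6.G2Two.CentShort2

set_option autoImplicit false
set_option linter.unusedSectionVars false
set_option linter.unusedVariables false
set_option linter.unusedSimpArgs false

/-!
The centralizer of `z₀` in `G₂(F)`, odd characteristic: it is contained in `(SL₂ ∘ SL₂) H`.
-/

namespace Cfsg.Agent.Helper6.G2Odd

open Cfsg.Lie Cfsg.Agent.Helper6 Cfsg.Agent.Helper6.Ree Cfsg.Agent.Helper6.G2Two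
open Cfsg.Agent.Helper2.St2F Cfsg.Agent.Helper2.ChevSL2

variable {F : Type*} [Field F]

local notation "SL2" => Matrix.SpecialLinearGroup (Fin 2)

theorem chi_z0_pos : chi (-1 : Fˣ) 1 6 = -1 ∧ chi (-1 : Fˣ) 1 7 = 1 ∧ chi (-1 : Fˣ) 1 8 = -1 ∧
    chi (-1 : Fˣ) 1 9 = -1 ∧ chi (-1 : Fˣ) 1 10 = -1 ∧ chi (-1 : Fˣ) 1 11 = 1 := by
  rw [chi_6, chi_7, chi_8, chi_9, chi_10, chi_11]
  simp only [Units.val_neg, Units.val_one]
  refine ⟨?_, ?_, ?_, ?_, ?_, ?_⟩ <;> norm_num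

theorem chi_z0_neg : chi (-1 : Fˣ) 1 0 = 1 ∧ chi (-1 : Fˣ) 1 1 = -1 ∧ chi (-1 : Fˣ) 1 2 = -1 ∧
    chi (-1 : Fˣ) 1 3 = -1 ∧ chi (-1 : Fˣ) 1 4 = 1 ∧ chi (-1 : Fˣ) 1 5 = -1 := by
  have h := chi_z0_pos (F := F)
  have e0 := chi_neg (-1 : Fˣ) 1 (r := 11) (by norm_num)
  have e1 := chi_neg (-1 : Fˣ) 1 (r := 10) (by norm_num)
  have e2 := chi_neg (-1 : Fˣ) 1 (r := 9) (by norm_num)
  have e3 := chi_neg (-1 : Fˣ) 1 (r := 8) (by norm_num)
  have e4 := chi_neg (-1 : Fˣ) 1 (r := 7) (by norm_num)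
  have e5 := chi_neg (-1 : Fˣ) 1 (r := 6) (by norm_num)
  norm_num at e0 e1 e2 e3 e4 e5
  rw [e0, e1, e2, e3, e4, e5, h.1, h.2.1, h.2.2.1, h.2.2.2.1, h.2.2.2.2.1, h.2.2.2.2.2]
  refine ⟨?_, ?_, ?_, ?_, ?_, ?_⟩ <;> norm_num

theorem z0_conj_X {r : ℕ} (hr : r < 12) (t : F) :
    z0 F * X r t * (z0 F)⁻¹ = X r (chi (-1 : Fˣ) 1 r * t) := tor_conj_X _ _ hr t

/-- the roots on which `z₀` acts trivially -/
theorem chi_z0_eq_one (h2 : (2 : F) ≠ 0) {s : ℕ} (hs : s < 12) (h : chi (-1 : Fˣ) 1 s = 1) :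
    s = 0 ∨ s = 4 ∨ s = 7 ∨ s = 11 := by
  have hp := chi_z0_pos (F := F)
  have hn := chi_z0_neg (F := F)
  have hne : (-1 : F) ≠ 1 := by
    intro h'
    apply h2
    linear_combination -h'
  interval_cases s
  · left; rfl
  · rw [hn.2.1] at h; exact absurd h hne
  · rw [hn.2.2.1] at h; exact absurd h hne
  · rw [hn.2.2.2.1] at h; exact absurd h hne
  · right; left; rfl
  · rw [hn.2.2.2.2.2] at h; exact absurd h hne
  · rw [hp.1] at h; exact absurd h hne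
  · right; right; left; rfl
  · rw [hp.2.2.1] at h; exact absurd h hne
  · rw [hp.2.2.2.1] at h; exact absurd h hne
  · rw [hp.2.2.2.2.1] at h; exact absurd h hne
  · right; right; right; rfl

/-- the centralizer of `z₀` in `U` -/
theorem cent_U (h2 : (2 : F) ≠ 0) {u : GL chevG2.Idx F} (hu : u ∈ chevG2.posUnipotent F)
    (hc : z0 F * u * (z0 F)⁻¹ = u) : ∃ b f : F, u = X 7 b * X 11 f := by
  obtain ⟨a, b, c, d, e, f, rfl⟩ := U6_exists hu
  have hp := chi_z0_pos (F := F)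
  have key : z0 F * (X 6 a * (X 7 b * (X 8 c * X 9 d * (X 10 e * X 11 f)))) * (z0 F)⁻¹ =
      X 6 (-a) * (X 7 b * (X 8 (-c) * X 9 (-d) * (X 10 (-e) * X 11 f))) := by
    calc z0 F * (X 6 a * (X 7 b * (X 8 c * X 9 d * (X 10 e * X 11 f)))) * (z0 F)⁻¹
        = (z0 F * X 6 a * (z0 F)⁻¹) * ((z0 F * X 7 b * (z0 F)⁻¹) *
            ((z0 F * X 8 c * (z0 F)⁻¹) * (z0 F * X 9 d * (z0 F)⁻¹) *
              ((z0 F * X 10 e * (z0 F)⁻¹) * (z0 F * X 11 f * (z0 F)⁻¹)))) := by group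
      _ = _ := by
          rw [z0_conj_X (by norm_num), z0_conj_X (by norm_num), z0_conj_X (by norm_num),
            z0_conj_X (by norm_num), z0_conj_X (by norm_num), z0_conj_X (by norm_num),
            hp.1, hp.2.1, hp.2.2.1, hp.2.2.2.1, hp.2.2.2.2.1, hp.2.2.2.2.2]
          simp only [neg_mul, one_mul]
  rw [key] at hc
  obtain ⟨h6, _, h8, h9, h10, _⟩ := U6_unique hc
  have z : ∀ x : F, -x = x → x = 0 := by
    intro x hx
    have : (2 : F) * x = 0 := by linear_combination -hx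
    rcases mul_eq_zero.1 this with h | h
    · exact absurd h h2
    · exact h
  rw [z a h6, z c h8, z d h9, z e h10]
  refine ⟨b, f, ?_⟩
  simp only [X_zero, one_mul, mul_one]

/-- the group `(SL₂ ∘ SL₂) H` -/
noncomputable def KK (F : Type*) [Field F] : Subgroup (GL chevG2.Idx F) :=
  (psi F).range ⊔ chevG2.diagonalSubgroup F

theorem phiL_mem_KK (A : SL2 F) : phiL F A ∈ KK F :=
  Subgroup.mem_sup_left ⟨(A, 1), by rw [psi_apply, map_one, mul_one]⟩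

theorem phiS_mem_KK (A : SL2 F) : phiS F A ∈ KK F :=
  Subgroup.mem_sup_left ⟨(1, A), by rw [psi_apply, map_one, one_mul]⟩

theorem H_le_KK : chevG2.diagonalSubgroup F ≤ KK F := le_sup_right

theorem X7_mem_KK (t : F) : X 7 t ∈ KK F := by rw [← phiS_upper]; exact phiS_mem_KK _
theorem X11_mem_KK (t : F) : X 11 t ∈ KK F := by rw [← phiL_upper]; exact phiL_mem_KK _

theorem nA_mem_KK : nA F ∈ KK F := by
  have : nA F = phiS F (wSL 1 one_ne_zero) := by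
    rw [phi_wSL (by norm_num) phiS_upper phiS_lower]; rfl
  rw [this]; exact phiS_mem_KK _

/-- `n_{3a+2b}(1)` -/
noncomputable def nL (F : Type*) [Field F] : GL chevG2.Idx F := nU hB2 11 (one_ne_zero (α := F))

theorem nL_eq : nL F = phiL F (wSL 1 one_ne_zero) := by
  rw [phi_wSL (by norm_num) phiL_upper phiL_lower]; rfl

theorem nL_mem_KK : nL F ∈ KK F := by rw [nL_eq]; exact phiL_mem_KK _

theorem nL_mem_N : nL F ∈ chevG2.monomialSubgroup F := nU_mem_N' (by norm_num) _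

theorem nL_inv_conj_7 (t : F) : (nL F)⁻¹ * X 7 t * nL F = X 7 t := by
  rw [nL_eq, ← phiS_upper]
  have := (phi_commute (wSL (1 : F) one_ne_zero) (upperSL t)).eq
  rw [mul_assoc, ← this, inv_mul_cancel_left]

theorem nL_inv_conj_0 (t : F) : (nL F)⁻¹ * X 0 t * nL F = X 11 (-t) := by
  rw [nL_eq, ← phiL_lower, ← phiL_upper, ← map_inv, ← map_mul, ← map_mul]
  congr 1
  have h := wSL_upper (1 : F) one_ne_zero (-t)
  have e : lowerSL t * wSL (1 : F) one_ne_zero = wSL (1 : F) one_ne_zero * upperSL (-t) := by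
    rw [h]
    congr 2
    ring
  rw [mul_assoc, e, inv_mul_cancel_left]

theorem sgn_chi_ne_zero {L : List ℕ} (hL : ∀ j ∈ L, j < 2) (a b : Fˣ) {s : ℕ} (hs : s < 12) :
    ((sgnWr L s : ℤ) : F) * (chi a b s * 1) ≠ 0 := by
  have h1 := sgnWr_ne_zero (F := F) L hL hs
  have h3 : ((sgnWr L s : ℤ) : F) ≠ 0 := by
    intro h0
    rw [h0, zero_mul] at h1
    exact zero_ne_one h1
  exact mul_ne_zero h3 (mul_ne_zero (chi_ne_zero a b s) one_ne_zero)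

theorem words_fix : ∀ L ∈ words12, wFr chevG2 L 7 = 7 → wFr chevG2 L 11 = 11 → L = [] := by decide

/-- an element of `N` normalizing `X_a` and `X_{3a+2b}` lies in `H` -/
theorem N_fix {n : GL chevG2.Idx F} (hn : n ∈ chevG2.monomialSubgroup F) {c d : F}
    (h7 : n * X 7 1 * n⁻¹ = X 7 c) (h11 : n * X 11 1 * n⁻¹ = X 11 d) :
    n ∈ chevG2.diagonalSubgroup F := by
  obtain ⟨L, hL, h, hh, rfl⟩ := monomial_cases hn
  obtain ⟨a, b, rfl⟩ := exists_tor hh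
  have hL' := words12_lt L hL
  rw [word_conj hL' a b (by norm_num)] at h7 h11
  have e7 := X_root_inj (wFr_lt12 hL' (by norm_num)) (by norm_num)
    (sgn_chi_ne_zero hL' a b (by norm_num)) h7
  have e11 := X_root_inj (wFr_lt12 hL' (by norm_num)) (by norm_num)
    (sgn_chi_ne_zero hL' a b (by norm_num)) h11
  have := words_fix L hL e7 e11
  subst this
  show 1 * tor a b ∈ _
  rw [one_mul]
  exact tor_mem_H a b

theorem w5_vals : wFr chevG2 [1, 0, 1, 0, 1] 7 = 7 ∧ wFr chevG2 [1, 0, 1, 0, 1] 11 = 0 := by decide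

theorem nW5_mem_KK : nWr hB2 F [1, 0, 1, 0, 1] ∈ KK F := by
  have Δ := bnG (F := F)
  have hL : ∀ j ∈ [1, 0, 1, 0, 1], j < 2 := by decide
  set m := nWr hB2 F [1, 0, 1, 0, 1] with hm
  have hmN : m ∈ chevG2.monomialSubgroup F := Δ.nWr_mem_monomial hL
  have h7 : m * X 7 1 * m⁻¹ = X 7 (((sgnWr [1, 0, 1, 0, 1] 7 : ℤ) : F) * 1) := by
    rw [hm, nWr_conj_sgn hL (by norm_num), w5_vals.1]
  have h11 : m * X 11 1 * m⁻¹ = X 0 (((sgnWr [1, 0, 1, 0, 1] 11 : ℤ) : F) * 1) := by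
    rw [hm, nWr_conj_sgn hL (by norm_num), w5_vals.2]
  have hH : (nL F)⁻¹ * m ∈ chevG2.diagonalSubgroup F := by
    apply N_fix (Subgroup.mul_mem _ (Subgroup.inv_mem _ nL_mem_N) hmN)
      (c := ((sgnWr [1, 0, 1, 0, 1] 7 : ℤ) : F) * 1)
      (d := -(((sgnWr [1, 0, 1, 0, 1] 11 : ℤ) : F) * 1))
    · calc (nL F)⁻¹ * m * X 7 1 * ((nL F)⁻¹ * m)⁻¹
          = (nL F)⁻¹ * (m * X 7 1 * m⁻¹) * nL F := by group
        _ = _ := by rw [h7, nL_inv_conj_7]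
    · calc (nL F)⁻¹ * m * X 11 1 * ((nL F)⁻¹ * m)⁻¹
          = (nL F)⁻¹ * (m * X 11 1 * m⁻¹) * nL F := by group
        _ = _ := by rw [h11, nL_inv_conj_0]
  have : m = nL F * ((nL F)⁻¹ * m) := by group
  rw [this]
  exact Subgroup.mul_mem _ nL_mem_KK (H_le_KK hH)

theorem words_stab : ∀ L ∈ words12,
    (wFr chevG2 L 7 = 0 ∨ wFr chevG2 L 7 = 4 ∨ wFr chevG2 L 7 = 7 ∨ wFr chevG2 L 7 = 11) →
    (wFr chevG2 L 11 = 0 ∨ wFr chevG2 L 11 = 4 ∨ wFr chevG2 L 11 = 7 ∨ wFr chevG2 L 11 = 11) →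
    L = [] ∨ L = [0] ∨ L = [1, 0, 1, 0, 1] ∨ L = [0, 1, 0, 1, 0, 1] := by decide

/-- the centralizer of `z₀` in `N` -/
theorem cent_N (h2 : (2 : F) ≠ 0) {n : GL chevG2.Idx F} (hn : n ∈ chevG2.monomialSubgroup F)
    (hc : z0 F * n * (z0 F)⁻¹ = n) : n ∈ KK F := by
  obtain ⟨L, hL, h, hh, rfl⟩ := monomial_cases hn
  obtain ⟨a, b, rfl⟩ := exists_tor hh
  have hL' := words12_lt L hL
  set n := nWr hB2 F L * tor a b with hn'
  have hp := chi_z0_pos (F := F)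
  -- the images of the roots `a`, `3a+2b` are fixed by `z₀`
  have key : ∀ r, r < 12 → chi (-1 : Fˣ) 1 r = 1 → chi (-1 : Fˣ) 1 (wFr chevG2 L r) = 1 := by
    intro r hr hχ
    have e1 : z0 F * (n * X r 1 * n⁻¹) * (z0 F)⁻¹ = n * X r 1 * n⁻¹ := by
      calc z0 F * (n * X r 1 * n⁻¹) * (z0 F)⁻¹
          = (z0 F * n * (z0 F)⁻¹) * (z0 F * X r 1 * (z0 F)⁻¹) * (z0 F * n * (z0 F)⁻¹)⁻¹ := by group
        _ = _ := by rw [hc, z0_conj_X hr, hχ, one_mul]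
    rw [hn', word_conj hL' a b hr, z0_conj_X (wFr_lt12 hL' hr)] at e1
    have e2 := X_inj (wFr_lt12 hL' hr) e1
    have hne := sgn_chi_ne_zero hL' a b hr
    have : (chi (-1 : Fˣ) 1 (wFr chevG2 L r) - 1) * (((sgnWr L r : ℤ) : F) * (chi a b r * 1)) = 0 := by
      linear_combination e2
    rcases mul_eq_zero.1 this with h | h
    · exact sub_eq_zero.1 h
    · exact absurd h hne
  have k7 := chi_z0_eq_one h2 (wFr_lt12 hL' (by norm_num)) (key 7 (by norm_num) hp.2.1)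
  have k11 := chi_z0_eq_one h2 (wFr_lt12 hL' (by norm_num)) (key 11 (by norm_num) hp.2.2.2.2.2)
  have hW : nWr hB2 F L ∈ KK F := by
    rcases words_stab L hL k7 k11 with rfl | rfl | rfl | rfl
    · exact Subgroup.one_mem _
    · rw [← nA_eq]; exact nA_mem_KK
    · exact nW5_mem_KK
    · show nWr hB2 F [1, 0, 1, 0, 1] * nU hB2 (chevG2.simple 0) (one_ne_zero (α := F)) ∈ KK F
      exact Subgroup.mul_mem _ nW5_mem_KK nA_mem_KK
  exact Subgroup.mul_mem _ hW (H_le_KK (tor_mem_H a b))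

/-- the centralizer of `z₀` in the group -/
theorem cent_le_KK (h2 : (2 : F) ≠ 0) {g : GL chevG2.Idx F} (hg : g ∈ chevG2.group F)
    (hc : z0 F * g * (z0 F)⁻¹ = g) : g ∈ KK F := by
  have Δ := bnG (F := F)
  obtain ⟨u₁, hu₁, n, hn, u, hu, rfl⟩ := Δ.unu_exists hg
  have hz := z0_mem_H (F := F)
  have huU : u ∈ chevG2.posUnipotent F := ((Δ.mem_Un_iff hn).1 hu).1
  have e : z0 F * (u₁ * n * u) * (z0 F)⁻¹ =
      (z0 F * u₁ * (z0 F)⁻¹) * (z0 F * n * (z0 F)⁻¹) * (z0 F * u * (z0 F)⁻¹) := by group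
  rw [e] at hc
  have hn' : z0 F * n * (z0 F)⁻¹ ∈ chevG2.monomialSubgroup F :=
    Subgroup.mul_mem _ (Subgroup.mul_mem _ (Δ.diag_le_monomial hz) hn)
      (Subgroup.inv_mem _ (Δ.diag_le_monomial hz))
  have hu' : z0 F * u * (z0 F)⁻¹ ∈ Δ.Un (z0 F * n * (z0 F)⁻¹) := by
    rw [Δ.mem_Un_iff hn']
    refine ⟨Δ.diag_conj_posUnipotent hz huU, ?_⟩
    have : z0 F * n * (z0 F)⁻¹ * (z0 F * u * (z0 F)⁻¹) * (z0 F * n * (z0 F)⁻¹)⁻¹ =
        z0 F * (n * u * n⁻¹) * (z0 F)⁻¹ := by group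
    rw [this]
    exact Δ.diag_conj_negUnipotent hz ((Δ.mem_Un_iff hn).1 hu).2
  obtain ⟨h1, h3, h4⟩ := Δ.unu_unique (Δ.diag_conj_posUnipotent hz hu₁) hu₁ hn' hn hu' hu hc
  obtain ⟨b₁, f₁, rfl⟩ := cent_U h2 hu₁ h1
  obtain ⟨b, f, rfl⟩ := cent_U h2 huU h4
  exact Subgroup.mul_mem _ (Subgroup.mul_mem _
    (Subgroup.mul_mem _ (X7_mem_KK _) (X11_mem_KK _)) (cent_N h2 hn h3))
    (Subgroup.mul_mem _ (X7_mem_KK _) (X11_mem_KK _))

end Cfsg.Agent.Helper6.G2Odd
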