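import Mathlib
import Cfsg.Agent.Helper6.G2Odd.Cent3

set_option autoImplicit false
set_option linter.unusedSectionVars false
set_option linter.unusedVariables false
set_option linter.unusedSimpArgs false

/-!
The centralizer of `z₀` in `G₂(F)`, `F` finite of odd order: `SL₂ ∘ SL₂` has index `2` in it.
-/

namespace Cfsg.Agent.Helper6.G2Odd

open Cfsg.Lie Cfsg.Agent.Helper6 Cfsg.Agent.Helper6.Ree Cfsg.Agent.Helper6.G2Two
open Cfsg.Agent.Helper2.St2F Cfsg.Agent.Helper2.ChevSL2

variable {F : Type*} [Field F]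

local notation "SL2" => Matrix.SpecialLinearGroup (Fin 2)

/-- the centralizer of `z₀` in the group -/
noncomputable def CC (F : Type*) [Field F] : Subgroup (GL chevG2.Idx F) :=
  chevG2.group F ⊓ Subgroup.centralizer {z0 F}

theorem mem_CC {g : GL chevG2.Idx F} :
    g ∈ CC F ↔ g ∈ chevG2.group F ∧ z0 F * g * (z0 F)⁻¹ = g := by
  unfold CC
  rw [Subgroup.mem_inf, Subgroup.mem_centralizer_iff]
  constructor
  · rintro ⟨h1, h2⟩
    refine ⟨h1, ?_⟩
    rw [h2 _ rfl]; group
  · rintro ⟨h1, h2⟩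
    refine ⟨h1, ?_⟩
    intro y hy
    rw [Set.mem_singleton_iff] at hy
    subst hy
    nth_rewrite 2 [← h2]
    group

theorem psi_range_le_CC : (psi F).range ≤ CC F := by
  rintro _ ⟨p, rfl⟩
  rw [mem_CC]
  refine ⟨psi_mem_group p, ?_⟩
  rw [← (psi_comm_z0 p).eq]; group

theorem H_le_CC : chevG2.diagonalSubgroup F ≤ CC F := by
  intro h hh
  obtain ⟨a, b, rfl⟩ := exists_tor hh
  rw [mem_CC]
  refine ⟨H_le_group hh, ?_⟩
  rw [z0, tor_inv, tor_mul, tor_mul]
  congr 1 <;> simp

theorem CC_eq_KK (h2 : (2 : F) ≠ 0) : CC F = KK F := by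
  apply le_antisymm
  · intro g hg
    rw [mem_CC] at hg
    exact cent_le_KK h2 hg.1 hg.2
  · exact sup_le psi_range_le_CC H_le_CC

/-- `H` normalizes `SL₂ ∘ SL₂` -/
theorem tor_conj_psi (a b : Fˣ) (p : SL2 F × SL2 F) :
    tor a b * psi F p * (tor a b)⁻¹ ∈ (psi F).range := by
  obtain ⟨A, B⟩ := p
  have hL : tor a b * phiL F A * (tor a b)⁻¹ ∈ (psi F).range := by
    have := sl2_range_le ((MulAut.conj (tor a b : GL chevG2.Idx F)).toMonoidHom.comp (phiL F))
      (psi F).range ?_ ?_ A
    · simpa using this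
    · intro t
      show tor a b * phiL F (upperSL t) * (tor a b)⁻¹ ∈ _
      rw [phiL_upper, tor_conj_X a b (by norm_num), ← phiL_upper]
      exact ⟨(upperSL (chi a b 11 * t), 1), by rw [psi_apply, map_one, mul_one]⟩
    · intro t
      show tor a b * phiL F (lowerSL t) * (tor a b)⁻¹ ∈ _
      rw [phiL_lower, tor_conj_X a b (by norm_num), ← phiL_lower]
      exact ⟨(lowerSL (chi a b 0 * t), 1), by rw [psi_apply, map_one, mul_one]⟩
  have hS : tor a b * phiS F B * (tor a b)⁻¹ ∈ (psi F).range := by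
    have := sl2_range_le ((MulAut.conj (tor a b : GL chevG2.Idx F)).toMonoidHom.comp (phiS F))
      (psi F).range ?_ ?_ B
    · simpa using this
    · intro t
      show tor a b * phiS F (upperSL t) * (tor a b)⁻¹ ∈ _
      rw [phiS_upper, tor_conj_X a b (by norm_num), ← phiS_upper]
      exact ⟨(1, upperSL (chi a b 7 * t)), by rw [psi_apply, map_one, one_mul]⟩
    · intro t
      show tor a b * phiS F (lowerSL t) * (tor a b)⁻¹ ∈ _
      rw [phiS_lower, tor_conj_X a b (by norm_num), ← phiS_lower]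
      exact ⟨(1, lowerSL (chi a b 4 * t)), by rw [psi_apply, map_one, one_mul]⟩
  have e : tor a b * psi F (A, B) * (tor a b)⁻¹ =
      (tor a b * phiL F A * (tor a b)⁻¹) * (tor a b * phiS F B * (tor a b)⁻¹) := by
    rw [psi_apply]; group
  rw [e]
  exact Subgroup.mul_mem _ hL hS

theorem H_le_normalizer :
    chevG2.diagonalSubgroup F ≤ Subgroup.normalizer ((psi F).range : Set (GL chevG2.Idx F)) := by
  intro h hh
  obtain ⟨a, b, rfl⟩ := exists_tor hh
  rw [Subgroup.mem_normalizer_iff]
  intro x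
  constructor
  · rintro ⟨p, rfl⟩
    exact tor_conj_psi a b p
  · intro hx
    obtain ⟨p, hp⟩ := hx
    have := tor_conj_psi a⁻¹ b⁻¹ p
    rw [hp, ← tor_inv, inv_inv] at this
    have e : (tor a b)⁻¹ * (tor a b * x * (tor a b)⁻¹) * tor a b = x := by group
    rwa [e] at this

/-- the elements of the centralizer in the form `m h` -/
theorem CC_decomp (h2 : (2 : F) ≠ 0) {g : GL chevG2.Idx F} (hg : g ∈ CC F) :
    ∃ m ∈ (psi F).range, ∃ β : Fˣ, g = m * tor 1 β := by
  rw [CC_eq_KK h2] at hg
  have hg' : g ∈ ((KK F : Subgroup (GL chevG2.Idx F)) : Set (GL chevG2.Idx F)) := hg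
  unfold KK at hg'
  rw [Subgroup.coe_mul_of_right_le_normalizer_left _ _ H_le_normalizer, Set.mem_mul] at hg'
  obtain ⟨m, hm, h, hh, rfl⟩ := hg'
  obtain ⟨a, b, rfl⟩ := exists_tor hh
  refine ⟨m * phiS F (dSL a), Subgroup.mul_mem _ hm ⟨(1, dSL a), by
    rw [psi_apply, map_one, one_mul]⟩, b, ?_⟩
  rw [phiS_dSL, mul_assoc, tor_mul, mul_one, one_mul]

/-- the torus elements `tor 1 β` of `SL₂ ∘ SL₂` -/
theorem tor_one_mem_iff (β : Fˣ) :
    (tor 1 β : GL chevG2.Idx F) ∈ (psi F).range ↔ ∃ s : Fˣ, β = s * s := by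
  constructor
  · rintro ⟨⟨A, B⟩, h⟩
    rw [psi_apply] at h
    have key : ∀ u : F, A * upperSL u = upperSL ((β : F) * u) * A := by
      intro u
      apply phiL_injective
      rw [map_mul, map_mul, phiL_upper, phiL_upper]
      have e1 : tor 1 β * X 11 u * (tor 1 β)⁻¹ = X 11 ((β : F) * u) := by
        rw [tor_conj_X 1 β (by norm_num), chi_11]
      have e2 : tor 1 β * X 11 u * (tor 1 β)⁻¹ = phiL F A * X 11 u * (phiL F A)⁻¹ := by
        rw [← h, ← phiL_upper]
        have c := (phi_commute (upperSL u) B).eq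
        calc phiL F A * phiS F B * phiL F (upperSL u) * (phiL F A * phiS F B)⁻¹
            = phiL F A * (phiS F B * phiL F (upperSL u)) * (phiS F B)⁻¹ * (phiL F A)⁻¹ := by group
          _ = phiL F A * (phiL F (upperSL u) * phiS F B) * (phiS F B)⁻¹ * (phiL F A)⁻¹ := by rw [c]
          _ = _ := by group
      rw [← e1, e2]
      group
    have k1 := congrArg (fun g : SL2 F => g.1 0 0) (key 1)
    have k2 := congrArg (fun g : SL2 F => g.1 0 1) (key 1)
    simp only [sl2_mul_apply, upper_00, upper_01, upper_10, upper_11, mul_one, mul_zero,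
      add_zero, one_mul] at k1 k2
    have h10 : A.1 1 0 = 0 := by
      have : (β : F) * A.1 1 0 = 0 := by linear_combination -k1
      rcases mul_eq_zero.1 this with h | h
      · exact absurd h β.ne_zero
      · exact h
    have hd := sl2_det A
    rw [h10, mul_zero, sub_zero] at hd
    have h00 : A.1 0 0 ≠ 0 := by
      intro h0
      rw [h0, zero_mul] at hd
      exact zero_ne_one hd
    refine ⟨Units.mk0 _ h00, ?_⟩
    ext
    simp only [Units.val_mul, Units.val_mk0]
    have k3 : A.1 0 0 = (β : F) * A.1 1 1 := by linear_combination k2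
    calc (β : F) = (β : F) * (A.1 0 0 * A.1 1 1) := by rw [hd, mul_one]
      _ = A.1 0 0 * A.1 0 0 := by rw [k3]; ring
  · rintro ⟨s, rfl⟩
    refine ⟨(dSL s, dSL s⁻¹), ?_⟩
    rw [psi_apply, phiL_dSL, phiS_dSL, tor_mul]
    congr 1
    · simp
    · simp [pow_two]

section finite

variable [Fintype F]

/-- squares have index two in the multiplicative group of a finite field of odd order -/
theorem square_dichotomy (hq : Odd (Fintype.card F)) :
    ∃ ν : Fˣ, (¬ ∃ s : Fˣ, ν = s * s) ∧ ∀ β : Fˣ, (∃ s : Fˣ, β * ν = s * s) ∨ ∃ s : Fˣ, β = s * s := by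
  classical
  have hchar : ringChar F ≠ 2 := by
    intro h
    have h3 := FiniteField.even_card_iff_char_two.1 h
    have h4 := Nat.odd_iff.1 hq
    omega
  have unit_sq : ∀ β : Fˣ, IsSquare (β : F) → ∃ s : Fˣ, β = s * s := by
    rintro β ⟨s, hs⟩
    have hs0 : s ≠ 0 := by
      rintro rfl
      rw [mul_zero] at hs
      exact β.ne_zero hs
    exact ⟨Units.mk0 s hs0, by ext; simpa using hs⟩
  obtain ⟨ν, hν⟩ := FiniteField.exists_nonsquare hchar
  have hν0 : ν ≠ 0 := by
    rintro rfl
    exact hν (IsSquare.zero)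
  refine ⟨Units.mk0 ν hν0, ?_, ?_⟩
  · rintro ⟨s, hs⟩
    apply hν
    refine ⟨(s : F), ?_⟩
    have := congrArg Units.val hs
    simpa using this
  · intro β
    rcases quadraticChar_dichotomy (F := F) β.ne_zero with h | h
    · right
      exact unit_sq β ((quadraticChar_one_iff_isSquare β.ne_zero).1 h)
    · left
      apply unit_sq
      rw [Units.val_mul, Units.val_mk0, ← quadraticChar_one_iff_isSquare
        (mul_ne_zero β.ne_zero hν0), map_mul, h,
        quadraticChar_neg_one_iff_not_isSquare.2 hν]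
      norm_num

/-- `SL₂ ∘ SL₂` has index two in the centralizer -/
theorem relIndex_psi_range (hq : Odd (Fintype.card F)) : (psi F).range.relIndex (CC F) = 2 := by
  have h2 := two_ne_zero_of_odd hq
  obtain ⟨ν, hν, hdich⟩ := square_dichotomy hq
  rw [Subgroup.relIndex_eq_two_iff_exists_notMem_and]
  refine ⟨tor 1 ν, H_le_CC (tor_mem_H 1 ν), ?_, ?_⟩
  · rw [tor_one_mem_iff]; exact hν
  · intro b hb
    obtain ⟨m, hm, β, rfl⟩ := CC_decomp h2 hb
    rcases hdich β with h | h
    · left
      rw [mul_assoc, tor_mul, one_mul]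
      exact Subgroup.mul_mem _ hm ((tor_one_mem_iff _).2 h)
    · right
      exact Subgroup.mul_mem _ hm ((tor_one_mem_iff _).2 h)

/-- the order of the centralizer -/
theorem card_CC (hq : Odd (Fintype.card F)) :
    Nat.card (CC F) = Fintype.card F ^ 2 * (Fintype.card F ^ 2 - 1) ^ 2 := by
  have h2 := two_ne_zero_of_odd hq
  have h1 := Subgroup.card_mul_index ((psi F).range.subgroupOf (CC F))
  have h3 : ((psi F).range.subgroupOf (CC F)).index = 2 := relIndex_psi_range hq
  rw [h3, Nat.card_congr (Subgroup.subgroupOfEquivOfLe psi_range_le_CC).toEquiv] at h1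
  rw [← h1, mul_comm, card_psi_range h2]
  ring

end finite

end Cfsg.Agent.Helper6.G2Odd
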