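import Mathlib
import Cfsg.Agent.Helper6.G2Odd.Cent4

set_option autoImplicit false
set_option linter.unusedSectionVars false
set_option linter.unusedVariables false
set_option linter.unusedSimpArgs false

/-!
The centralizer of an involution in `G₂(F)`, `F` finite of odd order: the statement in the abstract
group.
-/

namespace Cfsg.Agent.Helper6.G2Odd

open Cfsg.Lie Cfsg.Agent.Helper6 Cfsg.Agent.Helper6.Ree Cfsg.Agent.Helper6.G2Two
open Cfsg.Agent.Helper2.St2F Cfsg.Agent.Helper2.ChevSL2

/-- the structure of the centralizer of an element, as a property -/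
def CentStruct {G : Type*} [Group G] (S : Type*) [Group S] (c : ℕ) (t : G) : Prop :=
  Nat.card (Subgroup.centralizer ({t} : Set G)) = c ∧
    ∃ L₁ L₂ : Subgroup G, Nonempty (L₁ ≃* S) ∧ Nonempty (L₂ ≃* S) ∧
      (∀ x ∈ L₁, ∀ y ∈ L₂, x * y = y * x) ∧ L₁ ⊓ L₂ = Subgroup.zpowers t ∧
      L₁ ⊔ L₂ ≤ Subgroup.centralizer ({t} : Set G) ∧
      (L₁ ⊔ L₂).relIndex (Subgroup.centralizer ({t} : Set G)) = 2

theorem map_centralizer_singleton {G : Type*} [Group G] (φ : G ≃* G) (t : G) :
    (Subgroup.centralizer ({t} : Set G)).map φ.toMonoidHom =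
      Subgroup.centralizer ({φ t} : Set G) := by
  ext y
  rw [Subgroup.mem_map_equiv, Subgroup.mem_centralizer_iff, Subgroup.mem_centralizer_iff]
  constructor
  · intro h z hz
    rw [Set.mem_singleton_iff] at hz
    subst hz
    have := congrArg φ (h t rfl)
    simpa using this
  · intro h z hz
    rw [Set.mem_singleton_iff] at hz
    subst hz
    have := congrArg φ.symm (h (φ z) rfl)
    simpa using this

/-- transport of the structure along an automorphism -/
theorem CentStruct.map {G : Type*} [Group G] {S : Type*} [Group S] {c : ℕ} {t : G}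
    (h : CentStruct S c t) (φ : G ≃* G) : CentStruct S c (φ t) := by
  obtain ⟨h1, L₁, L₂, ⟨e₁⟩, ⟨e₂⟩, hcomm, hinf, hle, hind⟩ := h
  have hinj : Function.Injective φ.toMonoidHom := φ.injective
  refine ⟨?_, L₁.map φ.toMonoidHom, L₂.map φ.toMonoidHom, ⟨(φ.subgroupMap L₁).symm.trans e₁⟩,
    ⟨(φ.subgroupMap L₂).symm.trans e₂⟩, ?_, ?_, ?_, ?_⟩
  · rw [← map_centralizer_singleton, ← h1]
    exact Nat.card_congr (φ.subgroupMap _).symm.toEquiv
  · rintro _ ⟨x, hx, rfl⟩ _ ⟨y, hy, rfl⟩
    show φ x * φ y = φ y * φ x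
    rw [← map_mul, ← map_mul, hcomm x hx y hy]
  · rw [← Subgroup.map_inf _ _ _ hinj, hinf, MonoidHom.map_zpowers]
    rfl
  · rw [← Subgroup.map_sup, ← map_centralizer_singleton]
    exact Subgroup.map_mono hle
  · rw [← Subgroup.map_sup, ← map_centralizer_singleton,
      Subgroup.relIndex_map_map_of_injective _ _ hinj]
    exact hind

variable {F : Type*} [Field F]

local notation "SL2" => Matrix.SpecialLinearGroup (Fin 2)

/-- the standard involution, in the abstract group -/
noncomputable def t0 (F : Type*) [Field F] : ↥(chevG2.group F) := ⟨z0 F, z0_mem_group⟩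

theorem CC_le_group : CC F ≤ chevG2.group F := inf_le_left

theorem centralizer_t0 :
    Subgroup.centralizer ({t0 F} : Set ↥(chevG2.group F)) = (CC F).subgroupOf (chevG2.group F) := by
  ext x
  rw [Subgroup.mem_centralizer_iff, Subgroup.mem_subgroupOf, mem_CC]
  constructor
  · intro h
    refine ⟨x.2, ?_⟩
    have := congrArg Subtype.val (h (t0 F) rfl)
    have e : z0 F * x.1 = x.1 * z0 F := this
    rw [e]; group
  · rintro ⟨_, h⟩ y hy
    rw [Set.mem_singleton_iff] at hy
    subst hy
    apply Subtype.ext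
    show z0 F * x.1 = x.1 * z0 F
    nth_rewrite 2 [← h]
    group

theorem rangeL_le_group : (phiL F).range ≤ chevG2.group F := by
  rintro _ ⟨A, rfl⟩; exact phiL_mem_group A

theorem rangeS_le_group : (phiS F).range ≤ chevG2.group F := by
  rintro _ ⟨A, rfl⟩; exact phiS_mem_group A

section finite

variable [Fintype F]

/-- the structure of the centralizer of the standard involution -/
theorem centStruct_t0 (hq : Odd (Fintype.card F)) :
    CentStruct (SL2 F) (Fintype.card F ^ 2 * (Fintype.card F ^ 2 - 1) ^ 2) (t0 F) := by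
  have hsup : ((phiL F).range.subgroupOf (chevG2.group F)) ⊔
      ((phiS F).range.subgroupOf (chevG2.group F)) =
      (psi F).range.subgroupOf (chevG2.group F) := by
    rw [psi_range, Subgroup.subgroupOf_sup rangeL_le_group rangeS_le_group]
  refine ⟨?_, (phiL F).range.subgroupOf (chevG2.group F),
    (phiS F).range.subgroupOf (chevG2.group F), ?_, ?_, ?_, ?_, ?_, ?_⟩
  · rw [centralizer_t0, Nat.card_congr (Subgroup.subgroupOfEquivOfLe CC_le_group).toEquiv]
    exact card_CC hq
  · exact ⟨(Subgroup.subgroupOfEquivOfLe rangeL_le_group).trans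
      (MonoidHom.ofInjective phiL_injective).symm⟩
  · exact ⟨(Subgroup.subgroupOfEquivOfLe rangeS_le_group).trans
      (MonoidHom.ofInjective phiS_injective).symm⟩
  · intro x hx y hy
    rw [Subgroup.mem_subgroupOf] at hx hy
    obtain ⟨A, hA⟩ := hx
    obtain ⟨B, hB⟩ := hy
    apply Subtype.ext
    show x.1 * y.1 = y.1 * x.1
    rw [← hA, ← hB]
    exact (phi_commute A B).eq
  · ext x
    rw [Subgroup.mem_inf, Subgroup.mem_subgroupOf, Subgroup.mem_subgroupOf]
    constructor
    · rintro ⟨h1, h2⟩
      rcases range_inf_range h1 h2 with h | h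
      · have : x = 1 := Subtype.ext h
        rw [this]; exact Subgroup.one_mem _
      · have : x = t0 F := Subtype.ext h
        rw [this]; exact Subgroup.mem_zpowers _
    · intro h
      obtain ⟨k, rfl⟩ := Subgroup.mem_zpowers_iff.1 h
      have e : ((t0 F ^ k : ↥(chevG2.group F)) : GL chevG2.Idx F) = z0 F ^ k := by
        simp [t0]
      rw [e]
      exact ⟨Subgroup.zpow_mem _ z0_mem_rangeL k, Subgroup.zpow_mem _ z0_mem_rangeS k⟩
  · rw [hsup, centralizer_t0]
    intro x hx
    exact psi_range_le_CC hx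
  · rw [hsup, centralizer_t0, Subgroup.relIndex_subgroupOf CC_le_group]
    exact relIndex_psi_range hq

/-- the structure of the centralizer of any involution -/
theorem centStruct_invol (hq : Odd (Fintype.card F)) (t : ↥(chevG2.group F)) (ht : orderOf t = 2) :
    CentStruct (SL2 F) (Fintype.card F ^ 2 * (Fintype.card F ^ 2 - 1) ^ 2) t := by
  have h2 : t * t = 1 := by
    have := pow_orderOf_eq_one t
    rw [ht, pow_two] at this
    exact this
  have h1 : t ≠ 1 := by
    intro h
    rw [h, orderOf_one] at ht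
    exact absurd ht (by norm_num)
  have h2' : t.1 * t.1 = 1 := by
    have := congrArg Subtype.val h2
    simpa using this
  have h1' : t.1 ≠ 1 := fun h => h1 (Subtype.ext h)
  obtain ⟨g, hg, e⟩ := invol_conj_z0 hq t.2 h2' h1'
  have e' : MulAut.conj (⟨g, hg⟩ : ↥(chevG2.group F))⁻¹ (t0 F) = t := by
    apply Subtype.ext
    show ((⟨g, hg⟩ : ↥(chevG2.group F))⁻¹ * t0 F * ((⟨g, hg⟩ : ↥(chevG2.group F))⁻¹)⁻¹).1 = t.1
    simp only [t0, Subgroup.coe_mul, Subgroup.coe_inv, inv_inv]
    rw [← e]
    group
  rw [← e']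
  exact (centStruct_t0 hq).map _

end finite

end Cfsg.Agent.Helper6.G2Odd
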